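import Groth.Agent.PCohLib.Trunc
import Mathlib.CategoryTheory.Functor.OfSequence

/-! Infinite descent: resolutions with all terms in `P`. -/

set_option autoImplicit false
set_option backward.isDefEq.respectTransparency false
set_option backward.defeqAttrib.useBackward true
set_option linter.style.haveILetI false
set_option linter.unusedSectionVars false

universe w v u

open CategoryTheory CategoryTheory.Limits CategoryTheory.Pretriangulated HomologicalComplex
open CochainComplex CochainComplex.HomComplex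
open DerivedCategory (Q)

namespace Groth.Agent.PCohLib

variable {C : Type u} [Category.{v} C] [Abelian C]
  {P : ObjectProperty C} [P.IsClosedUnderIsomorphisms] [P.ContainsZero]

/-- A stage of the infinite descent. -/
structure Stage (P : ObjectProperty C) {E F : CochainComplex C ℤ} (u : E ⟶ F) (n : ℤ) (t : ℕ) where
  G : CochainComplex C ℤ
  v : E ⟶ G
  w : G ⟶ F
  fac : v ≫ w = u
  mono : ∀ i, Mono (v.f i)
  iso : ∀ i, n ≤ i → IsIso (v.f i)
  strict : PCoh.IsStrictPCAll P G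
  nqis : NQis w (n - t)

lemma exists_next (hsum : ∀ X Y : C, P X → P Y → P (X ⨯ Y)) (hql : PCoh.IsQuasiLiftable P)
    {E F : CochainComplex C ℤ} {u : E ⟶ F} {n : ℤ}
    (hFT : ∀ (j : ℤ) (G : CochainComplex C ℤ) (f : G ⟶ F), PCoh.IsStrictPCAll P G →
      NQis f (j + 1) → PCoh.IsOfFiniteType P ((mappingCone f).homology j))
    (t : ℕ) (S : Stage P u n t) :
    ∃ (S' : Stage P u n (t + 1)) (φ : S.G ⟶ S'.G), S.v ≫ φ = S'.v ∧ φ ≫ S'.w = S.w ∧
      ∀ i, n - t ≤ i → IsIso (φ.f i) := by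
  obtain ⟨G', φ, w', h, hm, hi, -, hP, hn⟩ := exists_step hsum hql S.w (n - (t + 1 : ℕ))
    (by convert S.nqis using 1; push_cast; omega)
    (hFT _ S.G S.w S.strict (by convert S.nqis using 1; push_cast; omega))
  refine ⟨⟨G', S.v ≫ φ, w', by rw [Category.assoc, h, S.fac], fun i => ?_, fun i hin => ?_,
    ⟨bounded_of_iso_ge φ (n - t) (fun i hi' => hi i (by push_cast; omega)) S.strict.1,
      fun i => hP i (S.strict.2 i)⟩, hn⟩, φ, rfl, h, fun i hi' => hi i (by push_cast; omega)⟩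
  · haveI := S.mono i; haveI := hm i; rw [comp_f]; exact mono_comp _ _
  · haveI := S.iso i hin; haveI := hi i (by push_cast; omega); rw [comp_f]; infer_instance

/-- Infinite descent. -/
lemma exists_resolution_all (hsum : ∀ X Y : C, P X → P Y → P (X ⨯ Y))
    (hql : PCoh.IsQuasiLiftable P) {E F : CochainComplex C ℤ} (hE : PCoh.IsStrictPCAll P E)
    (u : E ⟶ F) (n : ℤ) (hu : NQis u n)
    (hFT : ∀ (j : ℤ) (G : CochainComplex C ℤ) (f : G ⟶ F), PCoh.IsStrictPCAll P G →
      NQis f (j + 1) → PCoh.IsOfFiniteType P ((mappingCone f).homology j)) :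
    ∃ (E' : CochainComplex C ℤ) (v : E ⟶ E') (u' : E' ⟶ F), v ≫ u' = u ∧
      PCoh.IsStrictPCAll P E' ∧ QuasiIso u' ∧ (∀ i, Mono (v.f i)) ∧
      (∀ i, n ≤ i → IsIso (v.f i)) := by
  choose next φ hv hw hiso using exists_next hsum hql (u := u) (n := n) hFT
  let S : ∀ t : ℕ, Stage P u n t := fun t => Nat.rec
    ⟨E, 𝟙 E, u, Category.id_comp _, fun i => by rw [id_f]; infer_instance,
      fun i _ => by rw [id_f]; infer_instance, hE, by simpa using hu⟩ (fun t S => next t S) t
  let Φ := Functor.ofSequence (X := fun t => (S t).G) (fun t => φ t (S t))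
  let M : ∀ {s t : ℕ}, s ≤ t → ((S s).G ⟶ (S t).G) := fun h => Φ.map (homOfLE h)
  have hM : ∀ {r s t : ℕ} (h : r ≤ s) (h' : s ≤ t), M h ≫ M h' = M (h.trans h') := fun h h' =>
    (Φ.map_comp (homOfLE h) (homOfLE h')).symm
  have hMs : ∀ t, M (Nat.le_add_right t 1) = φ t (S t) := fun t =>
    Functor.ofSequence_map_homOfLE_succ (X := fun t => (S t).G) (fun t => φ t (S t)) t
  have hM0 : ∀ s, M (le_refl s) = 𝟙 _ := fun s => Φ.map_id s
  have hMw : ∀ {s t : ℕ} (h : s ≤ t), M h ≫ (S t).w = (S s).w ∧ (S s).v ≫ M h = (S t).v ∧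
      ∀ i, n - s ≤ i → IsIso ((M h).f i) := by
    intro s t h
    induction h with
    | refl =>
      rw [hM0]
      exact ⟨Category.id_comp _, Category.comp_id _, fun i _ => by rw [id_f]; infer_instance⟩
    | @step t h ih =>
      rw [← hM h (Nat.le_add_right t 1), hMs]
      refine ⟨?_, ?_, fun i hi => ?_⟩
      · rw [Category.assoc]; exact (congrArg _ (hw t (S t))).trans ih.1
      · rw [← Category.assoc, ih.2.1]; exact hv t (S t)
      · haveI := ih.2.2 i hi
        haveI := hiso t (S t) i (by have : (s : ℤ) ≤ t := Int.ofNat_le.2 h; omega)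
        rw [comp_f]; infer_instance
  let τ : ℤ → ℕ := fun j => (n - j).toNat
  have hτ : ∀ j, τ (j + 1) ≤ τ j := fun j => by simp only [τ]; omega
  have hτ' : ∀ j, n - τ j ≤ j := fun j => by simp only [τ]; omega
  haveI hi : ∀ j, IsIso ((M (hτ j)).f (j + 1)) := fun j => (hMw (hτ j)).2.2 _ (hτ' _)
  let X' : ℤ → C := fun j => (S (τ j)).G.X j
  let d' : ∀ j, X' j ⟶ X' (j + 1) := fun j =>
    (S (τ j)).G.d j (j + 1) ≫ inv ((M (hτ j)).f (j + 1))
  have key : ∀ j (s : ℕ) (h : τ j ≤ s), d' j ≫ (M ((hτ j).trans h)).f (j + 1) =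
      (M h).f j ≫ (S s).G.d j (j + 1) := by
    intro j s h
    rw [← hM (hτ j) h, comp_f, (M h).comm]
    simp [d']
  let E' : CochainComplex C ℤ := CochainComplex.of X' d' fun j => by
    haveI : IsIso ((M ((hτ (j + 1)).trans (hτ j))).f (j + 1 + 1)) :=
      (hMw ((hτ (j + 1)).trans (hτ j))).2.2 _ (hτ' _)
    rw [← cancel_mono ((M ((hτ (j + 1)).trans (hτ j))).f (j + 1 + 1)), Category.assoc,
      key (j + 1) (τ j) (hτ j), ← Category.assoc]
    erw [key j (τ j) le_rfl]
    simp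
  have hd : ∀ j, E'.d j (j + 1) = d' j := fun j => by simp [E']
  let u' : E' ⟶ F :=
    { f := fun j => (S (τ j)).w.f j
      comm' := fun i j hij => by
        obtain rfl : i + 1 = j := hij
        rw [hd]
        have h1 := congrArg (fun f => f.f (i + 1)) (hMw (hτ i)).1
        have h2 := key i (τ i) le_rfl
        simp only [comp_f] at h1
        change (S (τ i)).w.f i ≫ F.d i (i + 1) = d' i ≫ (S (τ (i + 1))).w.f (i + 1)
        rw [← h1, ← Category.assoc (d' i), show M (hτ i) = M ((hτ i).trans le_rfl) from rfl, h2,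
          hM0, id_f, Category.id_comp]
        exact (S (τ i)).w.comm i (i + 1) }
  let v : E ⟶ E' :=
    { f := fun j => (S (τ j)).v.f j
      comm' := fun i j hij => by
        obtain rfl : i + 1 = j := hij
        rw [hd]
        haveI := hi i
        have h1 := congrArg (fun f => f.f (i + 1)) (hMw (hτ i)).2.1
        have h2 := key i (τ i) le_rfl
        simp only [comp_f] at h1
        rw [← cancel_mono ((M (hτ i)).f (i + 1))]
        change ((S (τ i)).v.f i ≫ d' i) ≫ _ = (E.d i (i + 1) ≫ (S (τ (i + 1))).v.f (i + 1)) ≫ _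
        simp only [d', Category.assoc, IsIso.inv_hom_id, Category.comp_id]
        refine ((S (τ i)).v.comm i (i + 1)).trans ?_
        exact congrArg (E.d i (i + 1) ≫ ·) h1.symm }
  refine ⟨E', v, u', ?_, ⟨?_, fun j => (S (τ j)).strict.2 j⟩, ⟨fun i => ?_⟩,
    fun j => (S (τ j)).mono j, fun j hj => (S (τ j)).iso j hj⟩
  · ext j
    exact congrArg (fun f => f.f j) (S (τ j)).fac
  · exact bounded_of_iso_ge v n (fun j hj => (S (τ j)).iso j hj) hE.1
  · obtain ⟨i, rfl⟩ : ∃ k, i = k + 1 := ⟨i - 1, by omega⟩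
    let t := τ i + 1
    have ht : τ i ≤ t := Nat.le_succ _
    rw [quasiIsoAt_iff' u' i (i + 1) (i + 1 + 1) (by simp) (by simp)]
    have hI : ∀ (k : ℤ) (h : τ k ≤ t), IsIso ((M h).f k) := fun k h => (hMw h).2.2 _ (hτ' k)
    haveI := hI i ht
    haveI := hI (i + 1) ((hτ i).trans ht)
    haveI := hI (i + 1 + 1) (((hτ (i + 1)).trans (hτ i)).trans ht)
    let e : E'.sc' i (i + 1) (i + 1 + 1) ≅ (S t).G.sc' i (i + 1) (i + 1 + 1) :=
      ShortComplex.isoMk (asIso ((M ht).f i)) (asIso ((M ((hτ i).trans ht)).f (i + 1)))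
        (asIso ((M (((hτ (i + 1)).trans (hτ i)).trans ht)).f (i + 1 + 1)))
        (by change (M ht).f i ≫ _ = E'.d i (i + 1) ≫ _; rw [hd]; exact (key i t ht).symm)
        (by change (M _).f (i + 1) ≫ _ = E'.d (i + 1) (i + 1 + 1) ≫ _
            rw [hd]; exact (key (i + 1) t ((hτ i).trans ht)).symm)
    have hq : ShortComplex.QuasiIso
        ((shortComplexFunctor' C (ComplexShape.up ℤ) i (i + 1) (i + 1 + 1)).map (S t).w) := by
      rw [← quasiIsoAt_iff' (S t).w i (i + 1) (i + 1 + 1) (by simp) (by simp),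
        quasiIsoAt_iff_isIso_homologyMap]
      exact (S t).nqis.1 _ (by simp only [t]; push_cast; have := hτ' i; omega)
    have hfac : (shortComplexFunctor' C (ComplexShape.up ℤ) i (i + 1) (i + 1 + 1)).map u' =
        e.hom ≫ (shortComplexFunctor' C (ComplexShape.up ℤ) i (i + 1) (i + 1 + 1)).map (S t).w := by
      ext
      · exact (congrArg (fun f => f.f i) (hMw ht).1).symm
      · exact (congrArg (fun f => f.f (i + 1)) (hMw ((hτ i).trans ht)).1).symm
      · exact (congrArg (fun f => f.f (i + 1 + 1))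
          (hMw (((hτ (i + 1)).trans (hτ i)).trans ht)).1).symm
    rw [hfac]
    exact ShortComplex.quasiIso_comp e.hom _

variable [HasDerivedCategory.{w} C]

/-- The finiteness needed by the descent, for a pseudo-coherent target. -/
lemma FT_cone_of_pc (hsum : ∀ X Y : C, P X → P Y → P (X ⨯ Y))
    (hqs : PCoh.IsQuasiStableUnderKernels P) (hql : PCoh.IsQuasiLiftable P)
    {F : CochainComplex C ℤ} (hF : PCoh.IsPC P (Q.obj F)) (j : ℤ) (G : CochainComplex C ℤ)
    (f : G ⟶ F) (hG : PCoh.IsStrictPCAll P G) (hf : NQis f (j + 1)) :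
    PCoh.IsOfFiniteType P ((mappingCone f).homology j) :=
  FT_iso ((DerivedCategory.homologyFunctorFactors C j).app _)
    (FT_H_of_gpc hqs (gpc_cone hsum hqs hql (cone_distinguished f)
      ⟨G, ⟨hG.1, fun i _ => hG.2 i⟩, ⟨Iso.refl _⟩⟩ (hF j))
      fun k hk => (isZero_H_iff _ k).2 ((nQis_iff_cone f (j + 1)).1 hf k (by omega)))

/-- Strictly pseudo-coherent representatives. -/
lemma exists_strictAll (hsum : ∀ X Y : C, P X → P Y → P (X ⨯ Y))
    (hqs : PCoh.IsQuasiStableUnderKernels P) (hql : PCoh.IsQuasiLiftable P)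
    {K : CochainComplex C ℤ} (hK : PCoh.IsPC P (Q.obj K)) (m : ℤ)
    (hac : ∀ i : ℤ, m ≤ i → IsZero (K.homology i)) :
    ∃ (E : CochainComplex C ℤ) (f : E ⟶ K), PCoh.IsStrictPCAll P E ∧ QuasiIso f ∧
      ∀ i : ℤ, m ≤ i → IsZero (E.X i) := by
  obtain ⟨G₀, hG₀⟩ : ∃ G₀ : CochainComplex C ℤ, IsZero G₀ := HasZeroObject.zero
  have h0 := fun i => (HomologicalComplex.eval C (ComplexShape.up ℤ) i).map_isZero hG₀
  obtain ⟨E, v, u', -, hE, hq, -, hi⟩ := exists_resolution_all hsum hql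
    (⟨⟨0, fun i _ => h0 i⟩, fun i => P_zero (h0 i)⟩ : PCoh.IsStrictPCAll P G₀) (0 : G₀ ⟶ K) m
    (nQis_zero hG₀ _ hac) (FT_cone_of_pc hsum hqs hql hK)
  refine ⟨E, u', hE, hq, fun i h => ?_⟩
  haveI := hi i h
  exact (h0 i).of_iso (asIso (v.f i)).symm

/-- Strictly pseudo-coherent approximation of the source of a quasi-isomorphism. -/
lemma exists_strictAll_qis (hsum : ∀ X Y : C, P X → P Y → P (X ⨯ Y))
    (hqs : PCoh.IsQuasiStableUnderKernels P) (hql : PCoh.IsQuasiLiftable P)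
    {X E : CochainComplex C ℤ} (hE : PCoh.IsStrictPCAll P E) (s : X ⟶ E) [QuasiIso s] :
    ∃ (G : CochainComplex C ℤ) (v : G ⟶ X), PCoh.IsStrictPCAll P G ∧ QuasiIso v := by
  obtain ⟨b, hb⟩ := hE.1
  obtain ⟨G, v, hG, hv, -⟩ := exists_strictAll hsum hqs hql (K := X)
    (fun n => gpc_iso (asIso (Q.map s)).symm ⟨E, ⟨hE.1, fun i _ => hE.2 i⟩, ⟨Iso.refl _⟩⟩) (b + 1)
    (fun i hi => (ShortComplex.isZero_homology_of_isZero_X₂ _ (hb i (by omega))).of_iso
      (asIso (homologyMap s i)))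
  exact ⟨G, v, hG, hv⟩

end Groth.Agent.PCohLib
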