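import Groth.Prelude.Def_PCoh
import Mathlib.CategoryTheory.Abelian.Refinements
import Mathlib.Algebra.Homology.Refinements
import Mathlib.Algebra.Homology.DerivedCategory.TStructure

/-! Pseudo-coherence in an abelian category: elementary facts about the class `P`, precoherent
objects, subcomplexes. -/

set_option autoImplicit false
set_option backward.isDefEq.respectTransparency false
set_option backward.defeqAttrib.useBackward true
set_option linter.style.haveILetI false
set_option linter.unusedSectionVars false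

universe w v u

open CategoryTheory CategoryTheory.Limits

namespace Groth.Agent.PCohLib

variable {C : Type u} [Category.{v} C] [Abelian C] {P : ObjectProperty C} [P.IsClosedUnderIsomorphisms]

lemma P_zero [P.ContainsZero] {X : C} (h : IsZero X) : P X := by
  obtain ⟨Z, hZ, hP⟩ := ObjectProperty.exists_prop_of_containsZero P
  exact P.prop_of_iso (hZ.iso h) hP

lemma P_biprod (hsum : ∀ X Y : C, P X → P Y → P (X ⨯ Y)) {X Y : C} (hX : P X) (hY : P Y) :
    P (X ⊞ Y) :=
  P.prop_of_iso (biprod.isoProd X Y).symm (hsum X Y hX hY)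

omit [P.IsClosedUnderIsomorphisms] in
lemma FT_of_epi {X Y : C} (f : X ⟶ Y) [Epi f] (h : PCoh.IsOfFiniteType P X) :
    PCoh.IsOfFiniteType P Y := by
  obtain ⟨E, π, hE, hπ⟩ := h
  exact ⟨E, π ≫ f, hE, epi_comp π f⟩

omit [P.IsClosedUnderIsomorphisms] in
lemma FT_iso {X Y : C} (e : X ≅ Y) (h : PCoh.IsOfFiniteType P X) : PCoh.IsOfFiniteType P Y :=
  FT_of_epi e.hom h

omit [P.IsClosedUnderIsomorphisms] in
lemma FT_self {X : C} (h : P X) : PCoh.IsOfFiniteType P X := ⟨X, 𝟙 X, h, inferInstance⟩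

lemma FT_zero [P.ContainsZero] {X : C} (h : IsZero X) : PCoh.IsOfFiniteType P X := FT_self (P_zero h)

variable (P) in
/-- Precoherent: kernels of maps from objects of `P` are of finite type. -/
def Pre (X : C) : Prop := ∀ (E : C) (u : E ⟶ X), P E → PCoh.IsOfFiniteType P (kernel u)

omit [P.IsClosedUnderIsomorphisms] in
lemma pre_of_mono {X Y : C} (i : X ⟶ Y) [Mono i] (h : Pre P Y) : Pre P X := fun E u hE =>
  FT_iso (kernelCompMono u i) (h E (u ≫ i) hE)

/-- `0 → X₁ → X₂ → X₃` exact, `X₂` of finite type, `X₃` precoherent. -/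
lemma FT_left (S : ShortComplex C) (hS : S.Exact) [Mono S.f]
    (hG : PCoh.IsOfFiniteType P S.X₂) (hH : Pre P S.X₃) : PCoh.IsOfFiniteType P S.X₁ := by
  obtain ⟨E, π, hE, hπ⟩ := hG
  let l := hS.lift (kernel.ι (π ≫ S.g) ≫ π) (by rw [Category.assoc, kernel.condition])
  have hl : l ≫ S.f = kernel.ι (π ≫ S.g) ≫ π := hS.lift_f _ _
  haveI : Epi l := by
    rw [epi_iff_surjective_up_to_refinements]
    intro A y
    obtain ⟨A', π', hπ', e, he⟩ := surjective_up_to_refinements_of_epi π (y ≫ S.f)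
    refine ⟨A', π', hπ', kernel.lift (π ≫ S.g) e (by
      rw [← Category.assoc e, ← he]; simp), ?_⟩
    rw [← cancel_mono S.f, Category.assoc, Category.assoc, hl, kernel.lift_ι_assoc, he]
  exact FT_of_epi l (hH E (π ≫ S.g) hE)

/-- Middle of a short exact sequence. -/
lemma FT_middle (hsum : ∀ X Y : C, P X → P Y → P (X ⨯ Y)) (hql : PCoh.IsQuasiLiftable P)
    (S : ShortComplex C) (hS : S.ShortExact) (h₁ : PCoh.IsOfFiniteType P S.X₁)
    (h₃ : PCoh.IsOfFiniteType P S.X₃) : PCoh.IsOfFiniteType P S.X₂ := by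
  haveI := hS.epi_g
  obtain ⟨E₁, π₁, hE₁, hπ₁⟩ := h₁
  obtain ⟨E₃, π₃, hE₃, hπ₃⟩ := h₃
  haveI : Epi (pullback.snd S.g π₃) := inferInstance
  obtain ⟨E', v, hE', hv⟩ := hql _ _ (pullback.snd S.g π₃) inferInstance hE₃
  refine ⟨E₁ ⊞ E', biprod.desc (π₁ ≫ S.f) (v ≫ pullback.fst S.g π₃), P_biprod hsum hE₁ hE', ?_⟩
  rw [epi_iff_surjective_up_to_refinements]
  intro A y
  obtain ⟨A₁, p₁, hp₁, e₃, he₃⟩ := surjective_up_to_refinements_of_epi π₃ (y ≫ S.g)
  obtain ⟨A₂, p₂, hp₂, e', he'⟩ :=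
    surjective_up_to_refinements_of_epi (v ≫ pullback.snd S.g π₃) e₃
  have hz : (p₂ ≫ p₁ ≫ y - e' ≫ v ≫ pullback.fst S.g π₃) ≫ S.g = 0 := by
    simp only [Preadditive.sub_comp, Category.assoc, pullback.condition]
    rw [he₃, reassoc_of% he', sub_self]
  haveI := hS.mono_f
  let x₁ := hS.exact.lift _ hz
  obtain ⟨A₃, p₃, hp₃, e₁, he₁⟩ := surjective_up_to_refinements_of_epi π₁ x₁
  refine ⟨A₃, p₃ ≫ p₂ ≫ p₁, inferInstance, biprod.lift e₁ (p₃ ≫ e'), ?_⟩
  rw [biprod.lift_desc, ← Category.assoc e₁, ← he₁]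
  simp only [Category.assoc]
  rw [show x₁ ≫ S.f = _ from hS.exact.lift_f _ hz]
  simp

/-- Middle precoherent. -/
lemma pre_middle (S : ShortComplex C) (hS : S.ShortExact)
    (h₁ : Pre P S.X₁) (h₃ : Pre P S.X₃) : Pre P S.X₂ := by
  intro E u hE
  haveI := hS.mono_f
  obtain ⟨E₁, π, hE₁, hπ⟩ := h₃ E (u ≫ S.g) hE
  let l := hS.exact.lift (π ≫ kernel.ι (u ≫ S.g) ≫ u)
    (by simp only [Category.assoc, kernel.condition, comp_zero])
  have hl : l ≫ S.f = π ≫ kernel.ι (u ≫ S.g) ≫ u := hS.exact.lift_f _ _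
  let m : kernel l ⟶ kernel u := kernel.lift u (kernel.ι l ≫ π ≫ kernel.ι (u ≫ S.g))
    (by simp only [Category.assoc]; rw [← hl, kernel.condition_assoc, zero_comp])
  haveI : Epi m := by
    rw [epi_iff_surjective_up_to_refinements]
    intro A y
    obtain ⟨A', p, hp, e, he⟩ := surjective_up_to_refinements_of_epi π
      (kernel.lift (u ≫ S.g) (y ≫ kernel.ι u) (by simp))
    have he' : p ≫ y ≫ kernel.ι u = e ≫ π ≫ kernel.ι (u ≫ S.g) := by
      rw [← reassoc_of% he, kernel.lift_ι]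
    refine ⟨A', p, hp, kernel.lift l e (by
      rw [← cancel_mono S.f, zero_comp, Category.assoc, hl, ← reassoc_of% he', kernel.condition,
        comp_zero, comp_zero]), ?_⟩
    rw [← cancel_mono (kernel.ι u)]
    simp [m, he']
  exact FT_of_epi m (h₁ E₁ l hE₁)

/-- Cokernel of a map from finite type to precoherent is precoherent. -/
lemma pre_right (hsum : ∀ X Y : C, P X → P Y → P (X ⨯ Y)) (hql : PCoh.IsQuasiLiftable P)
    (S : ShortComplex C) (hS : S.Exact) [Epi S.g]
    (hF : PCoh.IsOfFiniteType P S.X₁) (hG : Pre P S.X₂) : Pre P S.X₃ := by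
  intro E u hE
  obtain ⟨E₁, π, hE₁, hπ⟩ := hF
  obtain ⟨E', v, hE', hv⟩ := hql _ _ (pullback.fst u S.g) inferInstance hE
  let w := biprod.desc (π ≫ S.f) (v ≫ pullback.snd u S.g)
  let m : kernel w ⟶ kernel u := kernel.lift u (kernel.ι w ≫ biprod.snd ≫ v ≫ pullback.fst u S.g) (by
    have := kernel.condition w =≫ S.g
    simp only [zero_comp, Category.assoc, w, biprod.desc_eq, Preadditive.add_comp, S.zero,
      comp_zero, zero_add] at this
    simp only [Category.assoc, pullback.condition]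
    simpa [w] using this)
  haveI : Epi m := by
    rw [epi_iff_surjective_up_to_refinements]
    intro A y
    obtain ⟨A₁, p₁, hp₁, e', he'⟩ :=
      surjective_up_to_refinements_of_epi (v ≫ pullback.fst u S.g) (y ≫ kernel.ι u)
    have hz : (e' ≫ v ≫ pullback.snd u S.g) ≫ S.g = 0 := by
      simp only [Category.assoc, ← pullback.condition]
      rw [← reassoc_of% he']; simp
    obtain ⟨A₂, p₂, hp₂, x, hx⟩ := hS.exact_up_to_refinements _ hz
    obtain ⟨A₃, p₃, hp₃, e₁, he₁⟩ := surjective_up_to_refinements_of_epi π x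
    refine ⟨A₃, p₃ ≫ p₂ ≫ p₁, inferInstance,
      kernel.lift w (biprod.lift (-e₁) (p₃ ≫ p₂ ≫ e')) ?_, ?_⟩
    · simp only [w, biprod.lift_desc, Category.assoc, Preadditive.neg_comp]
      rw [← reassoc_of% he₁, hx]
      exact neg_add_cancel _
    · rw [← cancel_mono (kernel.ι u)]
      simp [m, he']
  exact FT_of_epi m (hG _ w (P_biprod hsum hE₁ hE'))

/-- A complex from a family of monomorphisms stable under the differential. -/
lemma exists_subcomplex (W : CochainComplex C ℤ) (K : ℤ → C) (m : ∀ i, K i ⟶ W.X i)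
    [∀ i, Mono (m i)] (h : ∀ i, ∃ l : K i ⟶ K (i + 1), l ≫ m (i + 1) = m i ≫ W.d i (i + 1)) :
    ∃ (W' : CochainComplex C ℤ) (ι : W' ⟶ W) (e : ∀ i, W'.X i ≅ K i),
      (∀ i, ι.f i = (e i).hom ≫ m i) ∧ ∀ i, Mono (ι.f i) := by
  choose l hl using h
  let W' : CochainComplex C ℤ := CochainComplex.of K l fun i => by
    rw [← cancel_mono (m (i + 1 + 1)), Category.assoc, hl, ← Category.assoc, hl]
    simp
  have hd : ∀ i, W'.d i (i + 1) = l i := fun i => by simp [W']
  let ι : W' ⟶ W :=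
    { f := m
      comm' := fun i j hij => by
        obtain rfl : i + 1 = j := hij
        rw [hd]
        exact (hl i).symm }
  refine ⟨W', ι, fun i => Iso.refl _, fun i => ?_, fun i => ?_⟩
  · exact (Category.id_comp _).symm
  · change Mono (m i); infer_instance

/-- A map into a complex through a degreewise monomorphism. -/
lemma exists_lift {G E F : CochainComplex C ℤ} (ι : E ⟶ F) [∀ i, Mono (ι.f i)] (f : G ⟶ F)
    (h : ∀ i, ∃ l : G.X i ⟶ E.X i, l ≫ ι.f i = f.f i) : ∃ g : G ⟶ E, g ≫ ι = f := by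
  choose l hl using h
  exact ⟨{ f := l
           comm' := fun i j _ => by
             rw [← cancel_mono (ι.f j), Category.assoc, Category.assoc, hl, ← ι.comm, reassoc_of% hl,
               f.comm] }, by ext i; exact hl i⟩

end Groth.Agent.PCohLib
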