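import Groth.Agent.PCohLib.Basic
import Mathlib.Algebra.Homology.Augment
import Mathlib.Algebra.Homology.HomotopyCategory.HomComplexSingle

/-! `n`-quasi-isomorphisms: completion to a quasi-isomorphism, killing one cycle class. -/

set_option autoImplicit false
set_option backward.isDefEq.respectTransparency false
set_option backward.defeqAttrib.useBackward true
set_option linter.style.haveILetI false
set_option linter.unusedSectionVars false

universe w v u

open CategoryTheory CategoryTheory.Limits CategoryTheory.Pretriangulated HomologicalComplex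
open CochainComplex CochainComplex.HomComplex

namespace Groth.Agent.PCohLib

variable {C : Type u} [Category.{v} C] [Abelian C] {P : ObjectProperty C} [P.IsClosedUnderIsomorphisms]

/-- Isomorphism on `H^i` for `i > n`, epimorphism on `H^n`. -/
def NQis {E F : CochainComplex C ℤ} (u : E ⟶ F) (n : ℤ) : Prop :=
  (∀ i : ℤ, n < i → IsIso (homologyMap u i)) ∧ Epi (homologyMap u n)

lemma nQis_mono {E F : CochainComplex C ℤ} {u : E ⟶ F} {n m : ℤ} (h : NQis u n) (hm : n ≤ m) :
    NQis u m := by
  refine ⟨fun i hi => h.1 i (by omega), ?_⟩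
  rcases eq_or_lt_of_le hm with rfl | hm
  · exact h.2
  · haveI := h.1 m hm; infer_instance

lemma nQis_comp {E F G : CochainComplex C ℤ} {u : E ⟶ F} {v : F ⟶ G} {n : ℤ}
    (hu : NQis u n) (hv : NQis v n) : NQis (u ≫ v) n := by
  refine ⟨fun i hi => ?_, ?_⟩
  · haveI := hu.1 i hi; haveI := hv.1 i hi; rw [homologyMap_comp]; infer_instance
  · haveI := hu.2; haveI := hv.2; rw [homologyMap_comp]; infer_instance

lemma nQis_of_quasiIso {E F : CochainComplex C ℤ} (u : E ⟶ F) [QuasiIso u] (n : ℤ) : NQis u n :=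
  ⟨fun i _ => inferInstance, inferInstance⟩

section

variable [HasDerivedCategory.{w} C]

lemma isIso_H_map_Q_iff {E F : CochainComplex C ℤ} (u : E ⟶ F) (i : ℤ) :
    IsIso ((DerivedCategory.homologyFunctor C i).map (DerivedCategory.Q.map u)) ↔
      IsIso (homologyMap u i) :=
  NatIso.isIso_map_iff (DerivedCategory.homologyFunctorFactors C i) u

lemma epi_H_map_Q_iff {E F : CochainComplex C ℤ} (u : E ⟶ F) (i : ℤ) :
    Epi ((DerivedCategory.homologyFunctor C i).map (DerivedCategory.Q.map u)) ↔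
      Epi (homologyMap u i) :=
  (MorphismProperty.epimorphisms C).arrow_mk_iso_iff
    (Arrow.isoMk ((DerivedCategory.homologyFunctorFactors C i).app E)
      ((DerivedCategory.homologyFunctorFactors C i).app F)
      (DerivedCategory.homologyFunctorFactors_hom_naturality u i).symm)

/-- `H^i` of the cone vanishes for `i ≥ n` iff the first map is an `n`-isomorphism. -/
lemma tri_iff {T : Triangle (DerivedCategory C)} (hT : T ∈ distinguishedTriangles) (n : ℤ) :
    (∀ i : ℤ, n ≤ i → IsZero ((DerivedCategory.homologyFunctor C i).obj T.obj₃)) ↔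
      (∀ i : ℤ, n < i → IsIso ((DerivedCategory.homologyFunctor C i).map T.mor₁)) ∧
        Epi ((DerivedCategory.homologyFunctor C n).map T.mor₁) := by
  constructor
  · intro h
    have hepi : ∀ i, n ≤ i → Epi ((DerivedCategory.homologyFunctor C i).map T.mor₁) := fun i hi =>
      (DerivedCategory.HomologySequence.epi_homologyMap_mor₁_iff T hT i).2 ((h i hi).eq_of_tgt _ _)
    refine ⟨fun i hi => ?_, hepi n le_rfl⟩
    haveI := hepi i hi.le
    haveI := (DerivedCategory.HomologySequence.mono_homologyMap_mor₁_iff T hT (i - 1) i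
      (by omega)).2 ((h (i - 1) (by omega)).eq_of_src _ _)
    exact isIso_of_mono_of_epi _
  · rintro ⟨hiso, hepi⟩ i hi
    have he : Epi ((DerivedCategory.homologyFunctor C i).map T.mor₁) := by
      rcases eq_or_lt_of_le hi with rfl | hi
      · exact hepi
      · haveI := hiso i hi; infer_instance
    haveI := hiso (i + 1) (by omega)
    refine (DerivedCategory.HomologySequence.exact₃ T hT i (i + 1) rfl).isZero_X₂ ?_ ?_
    · exact (DerivedCategory.HomologySequence.epi_homologyMap_mor₁_iff T hT i).1 he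
    · exact (DerivedCategory.HomologySequence.mono_homologyMap_mor₁_iff T hT i (i + 1) rfl).1
        inferInstance

lemma cone_distinguished {E F : CochainComplex C ℤ} (u : E ⟶ F) :
    DerivedCategory.Q.mapTriangle.obj (mappingCone.triangle u) ∈ distinguishedTriangles :=
  (DerivedCategory.mem_distTriang_iff _).2 ⟨E, F, u, ⟨Iso.refl _⟩⟩

lemma isZero_H_iff (E : CochainComplex C ℤ) (i : ℤ) :
    IsZero ((DerivedCategory.homologyFunctor C i).obj (DerivedCategory.Q.obj E)) ↔
      IsZero (E.homology i) :=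
  ((DerivedCategory.homologyFunctorFactors C i).app E).isZero_iff

end

lemma nQis_iff_cone {E F : CochainComplex C ℤ} (u : E ⟶ F) (n : ℤ) :
    NQis u n ↔ ∀ i : ℤ, n ≤ i → IsZero ((mappingCone u).homology i) := by
  letI := HasDerivedCategory.standard C
  have h := tri_iff (cone_distinguished u) n
  constructor
  · intro hu i hi
    exact (isZero_H_iff _ i).1 (h.2 ⟨fun j hj => (isIso_H_map_Q_iff u j).2 (hu.1 j hj),
      (epi_H_map_Q_iff u n).2 hu.2⟩ i hi)
  · intro hz
    have := h.1 fun i hi => (isZero_H_iff _ i).2 (hz i hi)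
    exact ⟨fun j hj => (isIso_H_map_Q_iff u j).1 (this.1 j hj), (epi_H_map_Q_iff u n).1 this.2⟩

lemma nQis_zero {F G : CochainComplex C ℤ} (hG : IsZero G) (u : G ⟶ F) {n : ℤ}
    (hF : ∀ i : ℤ, n ≤ i → IsZero (F.homology i)) : NQis u n := by
  have hz : ∀ i, IsZero (G.homology i) := fun i =>
    (HomologicalComplex.homologyFunctor C _ i).map_isZero hG
  refine ⟨fun i hi => ?_, ?_⟩
  · exact ⟨0, (hz i).eq_of_src _ _, (hF i hi.le).eq_of_src _ _⟩
  · exact ⟨fun a b _ => (hF n le_rfl).eq_of_src a b⟩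

/-- Homology in the lowest degree of finiteness is of finite type. -/
lemma FT_homology_of_strictPC (hqs : PCoh.IsQuasiStableUnderKernels P) (n : ℤ)
    (E : CochainComplex C ℤ) (hb : ∃ b : ℤ, ∀ i : ℤ, b < i → IsZero (E.X i))
    (hP : ∀ i : ℤ, n ≤ i → P (E.X i)) (hac : ∀ i : ℤ, n < i → IsZero (E.homology i)) :
    PCoh.IsOfFiniteType P (E.homology n) := by
  obtain ⟨b, hb⟩ := hb
  let K₀ : CochainComplex C ℕ := CochainComplex.of (fun j => E.X (n + j))
    (fun j => E.d (n + j) (n + (j + 1 : ℕ))) (fun j => E.d_comp_d _ _ _)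
  have hd : ∀ j, K₀.d j (j + 1) = E.d (n + j) (n + (j + 1 : ℕ)) := fun j => by simp [K₀]
  let a := E.d (n + (0 : ℕ)) (n + (0 + 1 : ℕ))
  let K := CochainComplex.augment K₀ (kernel.ι a) ((congrArg (kernel.ι a ≫ ·) (hd 0)).trans
    (kernel.condition a))
  have hex : ∀ j : ℕ, K.ExactAt j := by
    intro j
    match j with
    | 0 =>
      rw [K.exactAt_iff_exact_up_to_refinements 0 0 1 (by simp) (by simp)]
      intro A x hx
      have h2 : x = 0 := (cancel_mono (kernel.ι a)).1 (hx.trans zero_comp.symm)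
      exact ⟨A, 𝟙 A, inferInstance, 0, by rw [h2]; simp⟩
    | 1 =>
      rw [K.exactAt_iff_exact_up_to_refinements 0 1 2 (by simp) (by simp)]
      intro A x hx
      refine ⟨A, 𝟙 A, inferInstance, kernel.lift a x ?_, ?_⟩
      · exact (congrArg (x ≫ ·) (hd 0)).symm.trans hx
      · exact (Category.id_comp x).trans (kernel.lift_ι a x _).symm
    | j + 2 =>
      rw [K.exactAt_iff_exact_up_to_refinements (j + 1) (j + 2) (j + 3) (by simp) (by simp)]
      intro A x hx
      have he : E.ExactAt (n + (j + 1 : ℕ)) := by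
        rw [exactAt_iff_isZero_homology]; exact hac _ (by omega)
      rw [E.exactAt_iff_exact_up_to_refinements (n + j) (n + (j + 1 : ℕ)) (n + (j + 2 : ℕ))
        (by simp only [CochainComplex.prev]; omega) (by simp only [CochainComplex.next]; omega)] at he
      obtain ⟨A', π, hπ, y, hy⟩ := he x ((congrArg (x ≫ ·) (hd (j + 1))).symm.trans hx)
      exact ⟨A', π, hπ, y, hy.trans (congrArg (y ≫ ·) (hd j)).symm⟩
  have hfin : ∃ m : ℕ, ∀ j : ℕ, m < j → IsZero (K.X j) := by
    refine ⟨(b - n).toNat + 1, fun j hj => ?_⟩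
    match j with
    | 0 => omega
    | j + 1 => exact hb _ (by omega)
  have hPK : ∀ j : ℕ, 1 ≤ j → P (K.X j) := fun j hj => by
    match j with
    | j + 1 => exact hP _ (by omega)
  have hZ : PCoh.IsOfFiniteType P (kernel a) := hqs K hex hfin hPK
  have hn : n + ((0 : ℕ) : ℤ) = n := by simp
  have hg : kernel.ι a ≫ E.d _ _ = 0 := kernel.condition a
  let g := E.liftCycles (kernel.ι a) (n + (0 + 1 : ℕ))
    (by simp only [CochainComplex.next]; omega) hg ≫ E.homologyπ (n + (0 : ℕ))
  haveI : Epi g := by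
    rw [epi_iff_surjective_up_to_refinements]
    intro A γ
    obtain ⟨A', π, hπ, z, hz, h⟩ := E.eq_liftCycles_homologyπ_up_to_refinements γ
      (n + (0 + 1 : ℕ)) (by simp only [CochainComplex.next]; omega)
    refine ⟨A', π, hπ, kernel.lift a z hz, h.trans ?_⟩
    rw [← Category.assoc]
    congr 1
    rw [← cancel_mono (E.iCycles _)]
    simp
  exact FT_iso (eqToIso (congrArg (fun k : ℤ => E.homology k) hn)) (FT_of_epi g hZ)

/-- An `n`-quasi-isomorphism completes to a quasi-isomorphism without changing degrees `≥ n`. -/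
lemma exists_completion {E F : CochainComplex C ℤ} (u : E ⟶ F) (n : ℤ) (hu : NQis u n) :
    ∃ (E' : CochainComplex C ℤ) (v : E ⟶ E') (u' : E' ⟶ F), v ≫ u' = u ∧ QuasiIso u' ∧
      (∀ i : ℤ, Mono (v.f i)) ∧ (∀ i : ℤ, n ≤ i → IsIso (v.f i)) := by
  let W := F ⊞ mappingCone (𝟙 E)
  let w : E ⟶ W := biprod.lift u (mappingCone.inr (𝟙 E))
  haveI hwm : ∀ i, Mono (w.f i) := fun i => by
    haveI : Mono (w.f i ≫ (biprod.snd : W ⟶ _).f i) := by
      rw [← comp_f, biprod.lift_snd]
      exact mono_of_mono_fac (mappingCone.inr_f_snd_v (𝟙 E) i)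
    exact mono_of_mono (w.f i) ((biprod.snd : W ⟶ _).f i)
  have hM : ∀ i, IsZero ((mappingCone (𝟙 E)).homology i) := fun i =>
    (nQis_iff_cone (𝟙 E) i).1 (nQis_of_quasiIso _ _) i le_rfl
  haveI : QuasiIso (biprod.fst : W ⟶ F) := ⟨fun i => by
    rw [quasiIsoAt_iff_isIso_homologyMap]
    refine ⟨homologyMap biprod.inl i, ?_, ?_⟩
    · have h0 : homologyMap (biprod.snd : W ⟶ _) i = 0 := (hM i).eq_of_tgt _ _
      have ht := congrArg (fun f => homologyMap f i) (biprod.total (X := F) (Y := mappingCone (𝟙 E)))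
      simp only [homologyMap_add, homologyMap_comp, homologyMap_id, h0, zero_comp, add_zero] at ht
      exact ht
    · rw [← homologyMap_comp, biprod.inl_fst, homologyMap_id]⟩
  have hw : NQis w n := by
    have hf : ∀ i, IsIso (homologyMap (biprod.fst : W ⟶ F) i) := fun i => inferInstance
    have e : ∀ i, homologyMap w i = homologyMap u i ≫ inv (homologyMap (biprod.fst : W ⟶ F) i) :=
      fun i => by rw [IsIso.eq_comp_inv, ← homologyMap_comp, biprod.lift_fst]
    exact ⟨fun i hi => by haveI := hu.1 i hi; rw [e]; infer_instance,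
      by haveI := hu.2; rw [e]; exact epi_comp _ _⟩
  classical
  let S : ∀ i, Subobject (W.X i) := fun i =>
    if n ≤ i then Subobject.mk (w.f i)
    else if i + 1 = n then kernelSubobject (W.d i (i + 1) ≫ cokernel.π (w.f (i + 1))) else ⊤
  have hge : ∀ i, n ≤ i → ∀ {A : C} (x : A ⟶ W.X i), (S i).Factors x ↔ ∃ e, e ≫ w.f i = x := by
    intro i hi A x
    simp only [S, if_pos hi]
    exact Subobject.mk_factors_iff _ _
  have heq : ∀ i, i + 1 = n → ∀ {A : C} (x : A ⟶ W.X i),
      (S i).Factors x ↔ ∃ e, e ≫ w.f (i + 1) = x ≫ W.d i (i + 1) := by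
    intro i hi A x
    simp only [S, if_neg (show ¬ n ≤ i by omega), if_pos hi, kernelSubobject_factors_iff,
      ← Category.assoc x]
    constructor
    · exact fun h => ⟨Abelian.monoLift _ _ h, Abelian.monoLift_comp _ _ h⟩
    · rintro ⟨e, he⟩
      rw [← he]; simp
  have hlt : ∀ i, i + 1 < n → ∀ {A : C} (x : A ⟶ W.X i), (S i).Factors x := by
    intro i hi A x
    simp only [S, if_neg (show ¬ n ≤ i by omega), if_neg (show ¬ i + 1 = n by omega)]
    exact Subobject.top_factors x
  have hst : ∀ i, (S (i + 1)).Factors ((S i).arrow ≫ W.d i (i + 1)) := by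
    intro i
    rcases lt_trichotomy (i + 1) n with h | h | h
    · rcases (show i + 1 + 1 < n ∨ i + 1 + 1 = n by omega) with h' | h'
      · exact hlt _ h' _
      · exact (heq _ h' _).2 ⟨0, by simp⟩
    · exact (hge _ h.ge _).2 ((heq i h _).1 (Subobject.factors_self _))
    · obtain ⟨e, he⟩ := (hge i (by omega) _).1 (Subobject.factors_self (S i))
      exact (hge _ (by omega) _).2 ⟨e ≫ E.d i (i + 1), by rw [← he, Category.assoc, Category.assoc,
        w.comm]⟩
  obtain ⟨E', ι, e, he, hι⟩ := exists_subcomplex W (fun i => (S i : C)) (fun i => (S i).arrow)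
    (fun i => ⟨(S (i + 1)).factorThru _ (hst i), Subobject.factorThru_arrow _ _ _⟩)
  have hfac : ∀ i {A : C} (x : A ⟶ W.X i), (S i).Factors x ↔ ∃ l, l ≫ ι.f i = x := by
    intro i A x
    constructor
    · exact fun h => ⟨(S i).factorThru x h ≫ (e i).inv, by simp [he]⟩
    · rintro ⟨l, rfl⟩
      rw [he, ← Category.assoc]
      exact Subobject.factors_of_factors_right _ (Subobject.factors_self _)
  haveI := hι
  obtain ⟨v, hv⟩ := exists_lift ι w (fun i => (hfac i _).1 (by
    rcases lt_trichotomy (i + 1) n with h | h | h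
    · exact hlt _ h _
    · exact (heq i h _).2 ⟨E.d i (i + 1), (w.comm i (i + 1)).symm⟩
    · exact (hge i (by omega) _).2 ⟨𝟙 _, Category.id_comp _⟩))
  have hvf : ∀ i, v.f i ≫ ι.f i = w.f i := fun i => by rw [← comp_f, hv]
  haveI : QuasiIso ι := ⟨fun i => by
    rw [quasiIsoAt_iff_isIso_homologyMap]
    haveI : Mono (homologyMap ι i) := by
      obtain ⟨j, rfl⟩ : ∃ j, i = j + 1 := ⟨i - 1, by omega⟩
      rw [mono_homologyMap_iff_up_to_refinements _ j (j + 1) (j + 1 + 1) (by simp) (by simp)]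
      intro A x hx y hy
      suffices H : ∃ (A' : C) (π : A' ⟶ A) (_ : Epi π) (z : A' ⟶ W.X j),
          (S j).Factors z ∧ π ≫ x ≫ ι.f (j + 1) = z ≫ W.d j (j + 1) by
        obtain ⟨A', π, hπ, z, hz, h⟩ := H
        obtain ⟨l, rfl⟩ := (hfac _ _).1 hz
        refine ⟨A', π, hπ, l, ?_⟩
        rw [← cancel_mono (ι.f (j + 1)), Category.assoc, Category.assoc, h, Category.assoc, ← ι.comm]
      rcases lt_trichotomy (j + 1) n with h | h | h
      · exact ⟨A, 𝟙 A, inferInstance, y, hlt _ h _, by rw [Category.id_comp, hy]⟩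
      · obtain ⟨a, ha⟩ := (hge (j + 1) h.ge _).1 ((hfac _ _).2 ⟨x, rfl⟩)
        exact ⟨A, 𝟙 A, inferInstance, y, (heq j h _).2 ⟨a, ha.trans hy⟩, by
          rw [Category.id_comp, hy]⟩
      · obtain ⟨a, ha⟩ := (hge (j + 1) h.le _).1 ((hfac _ _).2 ⟨x, rfl⟩)
        have hac' : a ≫ E.d (j + 1) (j + 1 + 1) = 0 := by
          rw [← cancel_mono (w.f (j + 1 + 1)), Category.assoc, ← w.comm, reassoc_of% ha, ι.comm,
            reassoc_of% hx]
          simp
        haveI := hw.1 (j + 1) h
        have hm := (mono_homologyMap_iff_up_to_refinements w j (j + 1) (j + 1 + 1) (by simp) (by simp)).1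
          inferInstance a hac' y (ha.trans hy)
        obtain ⟨A', π, hπ, a', ha'⟩ := hm
        refine ⟨A', π, hπ, a' ≫ w.f j, (hge _ (by omega) _).2 ⟨a', rfl⟩, ?_⟩
        rw [← ha, reassoc_of% ha', Category.assoc, w.comm]
    haveI : Epi (homologyMap ι i) := by
      rw [epi_homologyMap_iff_up_to_refinements _ (i - 1) i (i + 1) (by simp) (by simp)]
      intro A y hy
      suffices H : ∃ (A' : C) (π : A' ⟶ A) (_ : Epi π) (z : A' ⟶ W.X i) (_ : z ≫ W.d i (i + 1) = 0)
          (y₁ : A' ⟶ W.X (i - 1)), (S i).Factors z ∧ π ≫ y = z + y₁ ≫ W.d (i - 1) i by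
        obtain ⟨A', π, hπ, z, hz0, y₁, hz, h⟩ := H
        obtain ⟨l, rfl⟩ := (hfac _ _).1 hz
        refine ⟨A', π, hπ, l, ?_, y₁, h⟩
        rw [← cancel_mono (ι.f (i + 1)), Category.assoc, ← ι.comm, ← Category.assoc, hz0, zero_comp]
      rcases lt_trichotomy (i + 1) n with h | h | h
      · exact ⟨A, 𝟙 A, inferInstance, y, hy, 0, hlt i h _, by simp⟩
      · exact ⟨A, 𝟙 A, inferInstance, y, hy, 0, (heq i h _).2 ⟨0, by simp [hy]⟩, by simp⟩
      · haveI : Epi (homologyMap w i) := (nQis_mono hw (show n ≤ i by omega)).2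
        obtain ⟨A', π, hπ, a, ha, y₁, h'⟩ := (epi_homologyMap_iff_up_to_refinements w (i - 1) i (i + 1)
          (by simp) (by simp)).1 inferInstance y hy
        exact ⟨A', π, hπ, a ≫ w.f i, by rw [Category.assoc, w.comm, reassoc_of% ha, zero_comp], y₁,
          (hge i (by omega) _).2 ⟨a, rfl⟩, h'⟩
    exact isIso_of_mono_of_epi _⟩
  refine ⟨E', v, ι ≫ biprod.fst, ?_, inferInstance, fun i => mono_of_mono_fac (hvf i),
    fun i hi => ?_⟩
  · rw [← Category.assoc, hv, biprod.lift_fst]
  · obtain ⟨a, ha⟩ := (hge i hi _).1 ((hfac i _).2 ⟨𝟙 _, Category.id_comp _⟩)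
    refine ⟨a, ?_, ?_⟩
    · rw [← cancel_mono (w.f i), Category.assoc, ha, hvf, Category.id_comp]
    · rw [← cancel_mono (ι.f i), Category.assoc, hvf, ha, Category.id_comp]

/-- Adding an object of `P` in degree `n` makes an `(n+1)`-quasi-isomorphism an `n`-one. -/
lemma exists_modification (hql : PCoh.IsQuasiLiftable P) {E F : CochainComplex C ℤ} (u : E ⟶ F)
    (n : ℤ) (hu : NQis u (n + 1))
    (hcone : PCoh.IsOfFiniteType P ((mappingCone u).homology n)) :
    ∃ (G : C) (_ : P G) (φ : (CochainComplex.singleFunctor C (n + 1)).obj G ⟶ E)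
      (u' : mappingCone φ ⟶ F), mappingCone.inr φ ≫ u' = u ∧ NQis u' n := by
  obtain ⟨G₀, π₀, hG₀, hπ₀⟩ := hcone
  haveI : Epi (pullback.snd ((mappingCone u).homologyπ n) π₀) := inferInstance
  obtain ⟨G, v, hG, hv⟩ := hql _ _ (pullback.snd ((mappingCone u).homologyπ n) π₀) inferInstance hG₀
  let ψ : G ⟶ (mappingCone u).X n :=
    (v ≫ pullback.fst _ _) ≫ (mappingCone u).iCycles n
  haveI hsur : Epi ((v ≫ pullback.fst _ _) ≫ (mappingCone u).homologyπ n) := by
    rw [Category.assoc, pullback.condition, ← Category.assoc]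
    exact epi_comp _ _
  have hψd : ψ ≫ (mappingCone u).d n (n + 1) = 0 := by simp [ψ]
  let a : G ⟶ E.X (n + 1) := ψ ≫ (mappingCone.fst u).1.v n (n + 1) rfl
  let b : G ⟶ F.X n := ψ ≫ (mappingCone.snd u).v n n (add_zero n)
  have had : a ≫ E.d (n + 1) (n + 1 + 1) = 0 := by
    have := congrArg (fun f => f ≫ (mappingCone.fst u).1.v (n + 1) (n + 1 + 1) rfl) hψd
    simp only [Category.assoc, zero_comp, mappingCone.d_fst_v u n (n + 1) (n + 1 + 1) rfl rfl,
      Preadditive.neg_comp, Preadditive.comp_neg, neg_eq_zero] at this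
    simpa [a] using this
  have hab : a ≫ u.f (n + 1) = -(b ≫ F.d n (n + 1)) := by
    have := congrArg (fun f => f ≫ (mappingCone.snd u).v (n + 1) (n + 1) (add_zero _)) hψd
    simp only [Category.assoc, zero_comp, mappingCone.d_snd_v u n (n + 1) rfl,
      Preadditive.comp_add] at this
    rw [eq_neg_iff_add_eq_zero]
    simpa [a, b] using this
  let φ : (CochainComplex.singleFunctor C (n + 1)).obj G ⟶ E :=
    HomologicalComplex.mkHomFromSingle a (fun k hk => by
      obtain rfl : n + 1 + 1 = k := hk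
      exact had)
  have hφf : φ.f (n + 1) = (singleObjXSelf (.up ℤ) (n + 1) G).hom ≫ a :=
    HomologicalComplex.mkHomFromSingle_f _ _
  let u' : mappingCone φ ⟶ F := mappingCone.desc φ
    (Cochain.fromSingleMk (-b) (show n + 1 + (-1) = n by omega)) u (by
      rw [Cochain.δ_fromSingleMk _ _ 0 (n + 1) (add_zero _)]
      apply (Cochain.fromSingleEquiv (add_zero (n + 1))).injective
      simp [Cochain.fromSingleEquiv, hφf, hab])
  have hinr : mappingCone.inr φ ≫ u' = u := mappingCone.inr_desc _ _ _ _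
  refine ⟨G, hG, φ, u', hinr, fun i hi => ?_, ?_⟩
  · haveI hepi : Epi (homologyMap u' i) := by
      have : Epi (homologyMap (mappingCone.inr φ) i ≫ homologyMap u' i) := by
        rw [← homologyMap_comp, hinr]; exact (nQis_mono hu (show n + 1 ≤ i by omega)).2
      exact epi_of_epi (homologyMap (mappingCone.inr φ) i) _
    haveI : Mono (homologyMap u' i) := by
      obtain ⟨j, rfl⟩ : ∃ j, i = j + 1 := ⟨i - 1, by omega⟩
      rw [mono_homologyMap_iff_up_to_refinements _ j (j + 1) (j + 1 + 1) (by simp) (by simp)]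
      intro A x hx y hy
      have hX : IsZero (((CochainComplex.singleFunctor C (n + 1)).obj G).X (j + 1 + 1)) :=
        isZero_single_obj_X _ _ _ _ (by omega)
      obtain ⟨z, e, rfl⟩ : ∃ (z : A ⟶ _) (e : A ⟶ E.X (j + 1)),
          x = z ≫ (mappingCone.inl φ).v (j + 1 + 1) (j + 1) (by omega) + e ≫ (mappingCone.inr φ).f (j + 1) := by
        obtain ⟨p, q, h⟩ := mappingCone.decomp_to φ x (j + 1 + 1) rfl
        exact ⟨p, q, h⟩
      obtain rfl : z = 0 := hX.eq_of_tgt _ _
      simp only [zero_comp, zero_add] at hx hy ⊢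
      have he : e ≫ E.d (j + 1) (j + 1 + 1) = 0 := by
        have := hx =≫ (mappingCone.snd φ).v (j + 1 + 1) (j + 1 + 1) (add_zero _)
        simpa using this
      have hy' : e ≫ u.f (j + 1) = y ≫ F.d j (j + 1) := by simpa [u'] using hy
      rcases lt_or_eq_of_le (show n ≤ j by omega) with hj | hj
      · haveI := hu.1 (j + 1) (by omega)
        obtain ⟨A', π, hπ, e', h⟩ := (mono_homologyMap_iff_up_to_refinements u j (j + 1) (j + 1 + 1)
          (by simp) (by simp)).1 inferInstance e he y hy'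
        exact ⟨A', π, hπ, e' ≫ (mappingCone.inr φ).f j, by simp [reassoc_of% h]⟩
      · subst hj
        let c : A ⟶ (mappingCone u).X n :=
          e ≫ (mappingCone.inl u).v (n + 1) n (by omega) - y ≫ (mappingCone.inr u).f n
        have hc : c ≫ (mappingCone u).d n (n + 1) = 0 := by
          simp [c, mappingCone.inl_v_d u (n + 1) n (n + 1 + 1) (by omega) (by omega),
            reassoc_of% he, reassoc_of% hy']
        obtain ⟨A₁, p₁, hp₁, g, hg⟩ := surjective_up_to_refinements_of_epi
          ((v ≫ pullback.fst _ _) ≫ (mappingCone u).homologyπ n)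
          ((mappingCone u).liftCycles c (n + 1) (by simp) hc ≫ (mappingCone u).homologyπ n)
        obtain ⟨A₂, p₂, hp₂, c', hc'⟩ := ((mappingCone u).comp_homologyπ_eq_iff_up_to_refinements
          (n - 1) n (by simp) _ _).1 (((Category.assoc _ _ _).trans hg).trans (Category.assoc _ _ _).symm)
        have hfst := hc' =≫ ((mappingCone u).iCycles n ≫ (mappingCone.fst u).1.v n (n + 1) rfl)
        simp [mappingCone.d_fst_v u (n - 1) n (n + 1) (by omega) rfl, c] at hfst
        refine ⟨A₂, p₂ ≫ p₁, inferInstance,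
          (p₂ ≫ g ≫ (singleObjXSelf (.up ℤ) (n + 1) G).inv) ≫ (mappingCone.inl φ).v (n + 1) n (by omega) -
            (c' ≫ (mappingCone.fst u).1.v (n - 1) n (by omega)) ≫ (mappingCone.inr φ).f n, ?_⟩
        have hd1 : ((CochainComplex.singleFunctor C (n + 1)).obj G).d (n + 1) (n + 1 + 1) = 0 := rfl
        simp [mappingCone.inl_v_d φ (n + 1) n (n + 1 + 1) (by omega) (by omega), hd1, hφf, a, ψ,
          reassoc_of% hfst, sub_eq_add_neg]
    exact isIso_of_mono_of_epi _
  · rw [epi_homologyMap_iff_up_to_refinements _ (n - 1) n (n + 1) (by simp) (by simp)]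
    intro A y hy
    let c : A ⟶ (mappingCone u).X n := y ≫ (mappingCone.inr u).f n
    have hc : c ≫ (mappingCone u).d n (n + 1) = 0 := by simp [c, reassoc_of% hy]
    obtain ⟨A₁, p₁, hp₁, g, hg⟩ := surjective_up_to_refinements_of_epi
      ((v ≫ pullback.fst _ _) ≫ (mappingCone u).homologyπ n)
      ((mappingCone u).liftCycles c (n + 1) (by simp) hc ≫ (mappingCone u).homologyπ n)
    obtain ⟨A₂, p₂, hp₂, c', hc'⟩ := ((mappingCone u).comp_homologyπ_eq_iff_up_to_refinements
      (n - 1) n (by simp) _ _).1 (((Category.assoc _ _ _).trans hg).trans (Category.assoc _ _ _).symm)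
    have hfst := hc' =≫ ((mappingCone u).iCycles n ≫ (mappingCone.fst u).1.v n (n + 1) rfl)
    have hsnd := hc' =≫ ((mappingCone u).iCycles n ≫ (mappingCone.snd u).v n n (add_zero n))
    simp [mappingCone.d_fst_v u (n - 1) n (n + 1) (by omega) rfl, c] at hfst
    simp [mappingCone.d_snd_v u (n - 1) n (by omega), c] at hsnd
    let e' := c' ≫ (mappingCone.fst u).1.v (n - 1) n (by omega)
    refine ⟨A₂, p₂ ≫ p₁, inferInstance,
      -((p₂ ≫ g ≫ (singleObjXSelf (.up ℤ) (n + 1) G).inv) ≫ (mappingCone.inl φ).v (n + 1) n (by omega)) +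
        e' ≫ (mappingCone.inr φ).f n, ?_, c' ≫ (mappingCone.snd u).v (n - 1) (n - 1) (add_zero _), ?_⟩
    · have hd1 : ((CochainComplex.singleFunctor C (n + 1)).obj G).d (n + 1) (n + 1 + 1) = 0 := rfl
      have h0 : (p₂ ≫ g ≫ a) - e' ≫ E.d n (n + 1) = 0 := by
        simp only [a, ψ, e', Category.assoc, sub_eq_add_neg]
        exact hfst.symm
      have h0' := sub_eq_zero.1 h0
      simp [mappingCone.inl_v_d φ (n + 1) n (n + 1 + 1) (by omega) (by omega), hd1, hφf,
        reassoc_of% h0']
    · simp [u', e', b, ψ, hsnd]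
      abel

end Groth.Agent.PCohLib
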