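import Groth.Agent.PCohLib.Step

/-! Pseudo-coherence in `D(C)`: triangles, shifts, homology criteria. -/

set_option autoImplicit false
set_option backward.isDefEq.respectTransparency false
set_option backward.defeqAttrib.useBackward true
set_option linter.style.haveILetI false
set_option linter.unusedSectionVars false

universe w v u

open CategoryTheory CategoryTheory.Limits CategoryTheory.Pretriangulated HomologicalComplex
open CochainComplex CochainComplex.HomComplex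
open DerivedCategory (Q singleFunctor)

namespace Groth.Agent.PCohLib

variable {C : Type u} [Category.{v} C] [Abelian C] [HasDerivedCategory.{w} C]
  {P : ObjectProperty C} [P.IsClosedUnderIsomorphisms] [P.ContainsZero]

local notation "HF" => DerivedCategory.homologyFunctor C

variable (P) in
/-- `n`-pseudo-coherence. -/
def GPC (n : ℤ) (F : DerivedCategory C) : Prop :=
  ∃ E : CochainComplex C ℤ, PCoh.IsStrictPC P n E ∧ Nonempty (Q.obj E ≅ F)

lemma gpc_iso {n : ℤ} {F G : DerivedCategory C} (e : F ≅ G) (h : GPC P n F) : GPC P n G := by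
  obtain ⟨E, hE, ⟨e'⟩⟩ := h
  exact ⟨E, hE, ⟨e' ≪≫ e⟩⟩

lemma gpc_mono {n m : ℤ} (h : n ≤ m) {F : DerivedCategory C} (hF : GPC P n F) : GPC P m F := by
  obtain ⟨E, hE, he⟩ := hF
  exact ⟨E, strictPC_mono h hE, he⟩

lemma gpc_shift {n : ℤ} {F : DerivedCategory C} (hF : GPC P n F) (m n' : ℤ) (hn : n' + m = n) :
    GPC P n' (F⟦m⟧) := by
  obtain ⟨E, ⟨⟨b, hb⟩, hP⟩, ⟨e⟩⟩ := hF
  exact ⟨E⟦m⟧, ⟨⟨b - m, fun i hi => hb (i + m) (by omega)⟩, fun i hi => hP (i + m) (by omega)⟩,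
    ⟨(Q.commShiftIso m).app E ≪≫ (CategoryTheory.shiftFunctor _ m).mapIso e⟩⟩

lemma exists_rep (F : DerivedCategory C) : ∃ K : CochainComplex C ℤ, Nonempty (Q.obj K ≅ F) :=
  ⟨_, ⟨Q.objObjPreimageIso F⟩⟩

noncomputable def Hiso {E : CochainComplex C ℤ} {F : DerivedCategory C} (e : Q.obj E ≅ F) (i : ℤ) :
    E.homology i ≅ (HF i).obj F :=
  (DerivedCategory.homologyFunctorFactors C i).symm.app E ≪≫ (HF i).mapIso e

lemma gpc_bounded {n : ℤ} {F : DerivedCategory C} (hF : GPC P n F) :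
    ∃ b : ℤ, ∀ i : ℤ, b < i → IsZero ((HF i).obj F) := by
  obtain ⟨E, ⟨⟨b, hb⟩, -⟩, ⟨e⟩⟩ := hF
  exact ⟨b, fun i hi =>
    IsZero.of_iso (ShortComplex.isZero_homology_of_isZero_X₂ _ (hb i hi)) (Hiso e i).symm⟩

variable (hsum : ∀ X Y : C, P X → P Y → P (X ⨯ Y))
  (hqs : PCoh.IsQuasiStableUnderKernels P) (hql : PCoh.IsQuasiLiftable P)

include hqs in
lemma FT_H_of_gpc {n : ℤ} {F : DerivedCategory C} (hF : GPC P n F)
    (hac : ∀ i : ℤ, n < i → IsZero ((HF i).obj F)) :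
    PCoh.IsOfFiniteType P ((HF n).obj F) := by
  obtain ⟨E, hE, ⟨e⟩⟩ := hF
  exact FT_iso (Hiso e n) (FT_homology_of_strictPC hqs n E hE.1 hE.2
    fun i hi => (hac i hi).of_iso (Hiso e i))

include hsum hqs hql in
lemma gpc_cone {n : ℤ} {T : Triangle (DerivedCategory C)} (hT : T ∈ distinguishedTriangles)
    (h₁ : GPC P (n + 1) T.obj₁) (h₂ : GPC P n T.obj₂) : GPC P n T.obj₃ := by
  obtain ⟨E, hE, ⟨e₁⟩⟩ := h₁
  obtain ⟨F, hF, ⟨e₂⟩⟩ := h₂
  obtain ⟨X, s, hs, g, hfac⟩ := DerivedCategory.right_fac (e₁.hom ≫ T.mor₁ ≫ e₂.inv)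
  haveI : QuasiIso s := (DerivedCategory.isIso_Q_map_iff_quasiIso _ s).1 hs
  obtain ⟨G, v, hG, hv⟩ := exists_strictPC_quasiIso hsum hqs hql (n + 1) hE s
  have hcomm : Q.map g = Q.map s ≫ e₁.hom ≫ T.mor₁ ≫ e₂.inv := by
    rw [hfac, IsIso.hom_inv_id_assoc]
  refine ⟨mappingCone (v ≫ g), cone_strict hsum _ n hG hF,
    ⟨Triangle.π₃.mapIso (isoTriangleOfIso₁₂ _ _ (cone_distinguished (v ≫ g)) hT
      (asIso (Q.map v) ≪≫ asIso (Q.map s) ≪≫ e₁) e₂ ?_)⟩⟩
  change Q.map (v ≫ g) ≫ e₂.hom = (Q.map v ≫ Q.map s ≫ e₁.hom) ≫ T.mor₁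
  rw [Functor.map_comp, hcomm]
  simp

include hsum hqs hql in
lemma gpc_mid {n : ℤ} {T : Triangle (DerivedCategory C)} (hT : T ∈ distinguishedTriangles)
    (h₁ : GPC P n T.obj₁) (h₃ : GPC P n T.obj₃) : GPC P n T.obj₂ :=
  gpc_cone hsum hqs hql (inv_rot_of_distTriang _ hT) (gpc_shift h₃ (-1) (n + 1) (by omega)) h₁

include hsum hqs hql in
lemma gpc_fst {n : ℤ} {T : Triangle (DerivedCategory C)} (hT : T ∈ distinguishedTriangles)
    (h₂ : GPC P (n + 1) T.obj₂) (h₃ : GPC P n T.obj₃) : GPC P (n + 1) T.obj₁ :=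
  gpc_iso ((shiftEquiv (DerivedCategory C) (1 : ℤ)).unitIso.app T.obj₁).symm
    (gpc_shift (gpc_cone hsum hqs hql (rot_of_distTriang _ hT) h₂ h₃) (-1) (n + 1) (by omega))

include hsum hqs hql in
/-- An object acyclic above `n` with `H^n` of finite type is `n`-pseudo-coherent. -/
lemma gpc_of_FT {n : ℤ} {F : DerivedCategory C}
    (hac : ∀ i : ℤ, n < i → IsZero ((HF i).obj F))
    (hft : PCoh.IsOfFiniteType P ((HF n).obj F)) : GPC P n F := by
  obtain ⟨K, ⟨e⟩⟩ := exists_rep F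
  obtain ⟨G₀, hG₀⟩ : ∃ G₀ : CochainComplex C ℤ, IsZero G₀ := HasZeroObject.zero
  have hK : ∀ i, n + 1 ≤ i → IsZero (K.homology i) := fun i hi =>
    (hac i (by omega)).of_iso (Hiso e i)
  have hQ0 : ∀ i, IsZero ((HF i).obj (Q.obj G₀)) := fun i =>
    (isZero_H_iff _ i).2 ((HomologicalComplex.homologyFunctor C _ i).map_isZero hG₀)
  have hT := cone_distinguished (0 : G₀ ⟶ K)
  haveI : Epi ((HF n).map (Q.mapTriangle.obj (mappingCone.triangle (0 : G₀ ⟶ K))).mor₂) :=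
    (DerivedCategory.HomologySequence.epi_homologyMap_mor₂_iff _ hT n (n + 1) rfl).2
      ((hQ0 (n + 1)).eq_of_tgt _ _)
  have hc : PCoh.IsOfFiniteType P ((mappingCone (0 : G₀ ⟶ K)).homology n) :=
    FT_iso ((DerivedCategory.homologyFunctorFactors C n).app _)
      (FT_of_epi ((HF n).map (Q.mapTriangle.obj (mappingCone.triangle (0 : G₀ ⟶ K))).mor₂)
        (FT_iso ((HF n).mapIso e).symm hft))
  obtain ⟨E₁, v₁, u₁, -, -, hi₁, -, hP₁, hn₁⟩ :=
    exists_step hsum hql (0 : G₀ ⟶ K) n (nQis_zero hG₀ _ hK) hc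
  obtain ⟨E', v, u', -, hq, -, hi⟩ := exists_completion u₁ n hn₁
  have h0 := (strictPC_zero C P n G₀ hG₀)
  refine ⟨E', ⟨bounded_of_iso_ge v n hi (bounded_of_iso_ge v₁ (n + 1)
    (fun i hi => hi₁ i (by omega)) h0.1), fun i hi' => ?_⟩, ⟨asIso (Q.map u') ≪≫ e⟩⟩
  haveI := hi i hi'
  exact P.prop_of_iso (asIso (v.f i)) (hP₁ i (h0.2 i hi'))

include hsum hqs hql in
lemma gpc_of_acyclic {n : ℤ} {F : DerivedCategory C}
    (hac : ∀ i : ℤ, n ≤ i → IsZero ((HF i).obj F)) : GPC P n F :=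
  gpc_of_FT hsum hqs hql (fun i hi => hac i hi.le) (FT_zero (hac n le_rfl))

include hsum hqs hql in
/-- `n`-pseudo-coherence through an `n`-isomorphism from a strictly perfect complex: the converse. -/
lemma gpc_of_approx {n : ℤ} {F : DerivedCategory C} {E : CochainComplex C ℤ}
    (hE : PCoh.IsStrictPC P n E) (α : Q.obj E ⟶ F)
    (hiso : ∀ i : ℤ, n < i → IsIso ((HF i).map α)) (hepi : Epi ((HF n).map α)) : GPC P n F := by
  obtain ⟨K, ⟨e⟩⟩ := exists_rep F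
  obtain ⟨X, s, hs, g, hfac⟩ := DerivedCategory.right_fac (α ≫ e.inv)
  haveI : QuasiIso s := (DerivedCategory.isIso_Q_map_iff_quasiIso _ s).1 hs
  obtain ⟨G, v, hG, hv⟩ := exists_strictPC_quasiIso hsum hqs hql n hE s
  have hg : Q.map (v ≫ g) = (Q.map v ≫ Q.map s) ≫ α ≫ e.inv := by
    rw [hfac, Functor.map_comp]; simp
  have hn : NQis (v ≫ g) n := by
    refine ⟨fun i hi => ?_, ?_⟩
    · rw [← isIso_H_map_Q_iff, hg]
      haveI := hiso i hi
      simp only [Functor.map_comp]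
      infer_instance
    · rw [← epi_H_map_Q_iff, hg]
      haveI := hepi
      simp only [Functor.map_comp]
      infer_instance
  obtain ⟨E', w, u', -, hq, -, hi⟩ := exists_completion (v ≫ g) n hn
  refine ⟨E', ⟨bounded_of_iso_ge w n hi hG.1, fun i hi' => ?_⟩, ⟨asIso (Q.map u') ≪≫ e⟩⟩
  haveI := hi i hi'
  exact P.prop_of_iso (asIso (w.f i)) (hG.2 i hi')

end Groth.Agent.PCohLib
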