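import Groth.Agent.PCohLib.Infinite
import Mathlib.Algebra.Homology.DerivedCategory.SingleTriangle
import Mathlib.Algebra.Homology.Embedding.ExtendHomology

/-! Change of the class `P`, coherence, finite presentation, triangulated functors. -/

set_option autoImplicit false
set_option backward.isDefEq.respectTransparency false
set_option backward.defeqAttrib.useBackward true
set_option linter.style.haveILetI false
set_option linter.unusedSectionVars false

universe w w' v v' u u'

open CategoryTheory CategoryTheory.Limits CategoryTheory.Pretriangulated HomologicalComplex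
open CochainComplex CochainComplex.HomComplex
open DerivedCategory (Q)

namespace Groth.Agent.PCohLib

variable {C : Type u} [Category.{v} C] [Abelian C] [HasDerivedCategory.{w} C]
  {P : ObjectProperty C} [P.IsClosedUnderIsomorphisms] [P.ContainsZero]

local notation "HF" => DerivedCategory.homologyFunctor C
local notation "S0" => DerivedCategory.singleFunctor C 0

lemma isZero_H_single (X : C) (i : ℤ) (hi : i ≠ 0) : IsZero ((HF i).obj ((S0).obj X)) := by
  rcases lt_or_gt_of_ne hi with h | h
  · exact DerivedCategory.isZero_of_isGE _ 0 i h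
  · exact DerivedCategory.isZero_of_isLE _ 0 i h

noncomputable def H0single (X : C) : (HF 0).obj ((S0).obj X) ≅ X :=
  (DerivedCategory.singleFunctorCompHomologyFunctorIso C 0).app X

lemma gpc_of_mem {X : C} (hX : P X) (n : ℤ) : GPC P n ((S0).obj X) := by
  refine ⟨(CochainComplex.singleFunctor C 0).obj X,
    ⟨⟨0, fun i hi => isZero_single_obj_X _ _ _ _ (by omega)⟩, fun i _ => ?_⟩,
    ⟨((DerivedCategory.singleFunctorIsoCompQ C 0).app X).symm⟩⟩
  by_cases hi : i = 0
  · subst hi
    exact P.prop_of_iso (singleObjXSelf (.up ℤ) 0 X).symm hX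
  · exact P_zero (isZero_single_obj_X _ _ _ _ hi)

lemma gpc_change {P₁ : ObjectProperty C} [P₁.IsClosedUnderIsomorphisms]
    (hsum : ∀ X Y : C, P X → P Y → P (X ⨯ Y)) (hqs : PCoh.IsQuasiStableUnderKernels P)
    (hql : PCoh.IsQuasiLiftable P)
    (hpc : ∀ X : C, P₁ X → PCoh.IsPC P ((S0).obj X)) {n : ℤ} {F : DerivedCategory C}
    (hF : GPC P₁ n F) : GPC P n F := by
  obtain ⟨E, hE, ⟨e⟩⟩ := hF
  obtain ⟨b, hb⟩ := hE.1
  exact gpc_iso e (gpc_of_terms hsum hqs hql n E b hb fun i hi => hpc _ (hE.2 i hi) (n - i))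

/-- Quasi-stability of a larger class. -/
lemma quasiStable_of_pc {P₁ : ObjectProperty C} [P₁.IsClosedUnderIsomorphisms] [P₁.ContainsZero]
    (hsum : ∀ X Y : C, P X → P Y → P (X ⨯ Y)) (hqs : PCoh.IsQuasiStableUnderKernels P)
    (hql : PCoh.IsQuasiLiftable P) (hle : ∀ X : C, P X → P₁ X)
    (hpc : ∀ X : C, P₁ X → PCoh.IsPC P ((S0).obj X)) : PCoh.IsQuasiStableUnderKernels P₁ := by
  intro K hex hfin hPK
  obtain ⟨m, hm⟩ := hfin
  let e := ComplexShape.embeddingUpNat
  let K' : CochainComplex C ℤ := K.extend e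
  have hK'0 : ∀ i, IsZero ((HF i).obj (Q.obj K')) := fun i => by
    rw [isZero_H_iff, ← exactAt_iff_isZero_homology]
    by_cases h : ∃ j, e.f j = i
    · obtain ⟨j, hj⟩ := h
      exact (K.extend_exactAt_iff e hj).2 (hex j)
    · exact K.extend_exactAt e i (fun j hj => h ⟨j, hj⟩)
  obtain ⟨G, ι, hmono, hiso, hz⟩ := exists_sigma K' 1
  haveI := hmono
  have hc : ∀ i, i ≠ 0 → IsZero ((cokernel ι).X i) := fun i hi => by
    by_cases h : 1 ≤ i
    · haveI := hiso i h
      exact (coker_X ι i).1 inferInstance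
    · haveI := (coker_X ι i).2 (hz i (by omega))
      exact IsZero.of_iso (K.isZero_extend_X e i fun j hj => by simp [e] at hj; omega)
        (asIso ((cokernel.π ι).f i)).symm
  haveI := (coker_X ι 0).2 (hz 0 (by omega))
  let e₀ : (cokernel ι).X 0 ≅ K.X 0 :=
    (asIso ((cokernel.π ι).f 0)).symm ≪≫ K.extendXIso e (show e.f 0 = (0 : ℤ) from rfl)
  have hT := DerivedCategory.triangleOfSES_distinguished (coker_ses ι)
  let δ := DerivedCategory.HomologySequence.δ (DerivedCategory.triangleOfSES (coker_ses ι)) 0 1 rfl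
  haveI : Epi δ :=
    (DerivedCategory.HomologySequence.exact₁ _ hT 0 1 rfl).epi_f ((hK'0 1).eq_of_tgt _ _)
  haveI : Mono δ :=
    (DerivedCategory.HomologySequence.exact₃ _ hT 0 1 rfl).mono_g ((hK'0 0).eq_of_src _ _)
  haveI : IsIso δ := isIso_of_mono_of_epi δ
  have hG : GPC P₁ 1 (Q.obj G) := by
    refine ⟨G, ⟨⟨m + 1, fun i hi => ?_⟩, fun i hi => ?_⟩, ⟨Iso.refl _⟩⟩
    · haveI := hiso i (by omega)
      obtain ⟨j, rfl⟩ : ∃ j : ℕ, i = j := ⟨i.toNat, by omega⟩
      exact ((hm j (by omega)).of_iso (K.extendXIso e (show e.f j = (j : ℤ) from rfl))).of_iso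
        (asIso (ι.f j))
    · haveI := hiso i hi
      obtain ⟨j, rfl⟩ : ∃ j : ℕ, i = j := ⟨i.toNat, by omega⟩
      exact P₁.prop_of_iso (asIso (ι.f j) ≪≫ K.extendXIso e (show e.f j = (j : ℤ) from rfl)).symm
        (hPK j (by omega))
  have hac : ∀ i : ℤ, 1 < i → IsZero ((HF i).obj (Q.obj G)) := fun i hi => by
    haveI := (isIso_H_map_Q_iff ι i).2 ((nQis_of_isIso_ge ι 1 hiso).1 i hi)
    exact (hK'0 i).of_iso (asIso ((HF i).map (Q.map ι)))
  have hft := FT_H_of_gpc hqs (gpc_change hsum hqs hql hpc hG) hac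
  obtain ⟨eS⟩ := Q_single (cokernel ι) 0 hc
  have hft₀ : PCoh.IsOfFiniteType P (K.X 0) :=
    FT_iso ((asIso δ).symm ≪≫ (HF 0).mapIso (eS.symm ≪≫ (CategoryTheory.shiftFunctorZero' _ (-0 : ℤ) neg_zero).app _) ≪≫
      H0single _ ≪≫ e₀) hft
  obtain ⟨E, π, hE, hπ⟩ := hft₀
  exact ⟨E, π, hle E hE, hπ⟩

section Coherent

variable (hsum : ∀ X Y : C, P X → P Y → P (X ⨯ Y)) (hql : PCoh.IsQuasiLiftable P)
  (hcoh : ∀ (X E : C) (u : E ⟶ X), P X → P E → PCoh.IsOfFiniteType P (kernel u))

include hcoh in
omit [HasDerivedCategory.{w} C] in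
lemma quasiStable_of_coherent : PCoh.IsQuasiStableUnderKernels P := by
  intro K hex _ hP
  have h0 := (K.exactAt_iff_exact_up_to_refinements 0 0 1 (by simp) (by simp)).1 (hex 0)
  have h1 := (K.exactAt_iff_exact_up_to_refinements 0 1 2 (by simp) (by simp)).1 (hex 1)
  haveI : Mono (K.d 0 1) := Preadditive.mono_of_cancel_zero _ fun x hx => by
    obtain ⟨A', π, hπ, y, hy⟩ := h0 x hx
    rw [← cancel_epi π, hy]; simp
  let l : K.X 0 ⟶ kernel (K.d 1 2) := kernel.lift _ (K.d 0 1) (K.d_comp_d _ _ _)
  haveI : Mono (l ≫ kernel.ι _) := by rw [kernel.lift_ι]; infer_instance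
  haveI : Mono l := mono_of_mono l (kernel.ι _)
  haveI : Epi l := by
    rw [epi_iff_surjective_up_to_refinements]
    intro A y
    obtain ⟨A', π, hπ, x, hx⟩ := h1 (y ≫ kernel.ι _) (by simp)
    refine ⟨A', π, hπ, x, ?_⟩
    rw [← cancel_mono (kernel.ι (K.d 1 2)), Category.assoc, hx, Category.assoc, kernel.lift_ι]
  haveI : IsIso l := isIso_of_mono_of_epi l
  exact FT_iso (asIso l).symm (hcoh _ _ _ (hP 2 (by omega)) (hP 1 le_rfl))

include hsum hql hcoh in
lemma gpc_of_coherent (t : ℕ) (F : C) (hft : PCoh.IsOfFiniteType P F) (hpre : Pre P F) :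
    GPC P (-(t : ℤ)) ((S0).obj F) := by
  have hqs := quasiStable_of_coherent hcoh
  induction t generalizing F with
  | zero =>
    simpa using gpc_of_FT hsum hqs hql (fun i hi => isZero_H_single F i hi.ne')
      (FT_iso (H0single F).symm hft)
  | succ t ih =>
    obtain ⟨E, π, hE, hπ⟩ := hft
    have hS : (ShortComplex.mk (kernel.ι π) π (kernel.condition π)).ShortExact :=
      { exact := ShortComplex.exact_kernel π }
    refine gpc_cone hsum hqs hql hS.singleTriangle_distinguished ?_ (gpc_of_mem hE _)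
    exact gpc_mono (by push_cast; omega)
      (ih (kernel π) (hpre E π hE) (pre_of_mono (kernel.ι π) fun E' v hE' => hcoh E E' v hE hE'))

include hsum hql hcoh in
lemma gpc_iff_coherent (n : ℤ) (F : DerivedCategory C) (b : ℤ)
    (hb : ∀ i : ℤ, b < i → IsZero ((HF i).obj F)) :
    GPC P n F ↔ PCoh.IsOfFiniteType P ((HF n).obj F) ∧
      ∀ i : ℤ, n < i → (PCoh.IsOfFiniteType P ((HF i).obj F) ∧ Pre P ((HF i).obj F)) := by
  have hqs := quasiStable_of_coherent hcoh
  constructor
  · rintro ⟨E, hE, ⟨e⟩⟩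
    have hZ : ∀ i, n ≤ i → PCoh.IsOfFiniteType P (E.cycles i) := fun i hi => by
      let S := ShortComplex.mk (E.iCycles i) (E.d i (i + 1)) (E.iCycles_d i (i + 1))
      exact FT_left S (S.exact_of_f_is_kernel (E.cyclesIsKernel i (i + 1) (by simp)))
        (FT_self (hE.2 i hi)) fun E' v hE' => hcoh _ E' v (hE.2 (i + 1) (by omega)) hE'
    have hH : ∀ i, n ≤ i → PCoh.IsOfFiniteType P ((HF i).obj F) := fun i hi =>
      FT_iso (Hiso e i) (FT_of_epi (E.homologyπ i) (hZ i hi))
    refine ⟨hH n le_rfl, fun i hi => ⟨hH i hi.le, ?_⟩⟩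
    intro X u hX
    let S := ShortComplex.mk (E.toCycles (i - 1) i) (E.homologyπ i) (E.toCycles_comp_homologyπ _ _)
    haveI : Epi S.g := by change Epi (E.homologyπ i); infer_instance
    have hpre : Pre P (E.homology i) := pre_right hsum hql S
      (S.exact_of_g_is_cokernel (E.homologyIsCokernel (i - 1) i (by simp)))
      (FT_self (hE.2 (i - 1) (by omega)))
      (pre_of_mono (E.iCycles i) fun E' v hE' => hcoh _ E' v (hE.2 i hi.le) hE')
    exact (pre_of_mono (Hiso e i).inv hpre) X u hX
  · rintro ⟨hn, hi⟩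
    refine gpc_of_homology hsum hqs hql n F b hb fun i hni => ?_
    rcases eq_or_lt_of_le hni with rfl | h
    · rw [sub_self]
      exact gpc_of_FT hsum hqs hql (fun j hj => isZero_H_single _ j hj.ne')
        (FT_iso (H0single _).symm hn)
    · exact gpc_mono (by omega) (gpc_of_coherent hsum hql hcoh (i - n).toNat _ (hi i h).1 (hi i h).2)

end Coherent

section Presentation

variable (hsum : ∀ X Y : C, P X → P Y → P (X ⨯ Y))
  (hqs : PCoh.IsQuasiStableUnderKernels P) (hql : PCoh.IsQuasiLiftable P)

variable (P) in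
/-- An exact sequence `K_{n+1} → ⋯ → K_1 → F → 0` with terms in `P`. -/
def HasPres (F : C) (n : ℕ) : Prop :=
  ∃ K : ChainComplex C ℕ, Nonempty (K.X 0 ≅ F) ∧ (∀ j : ℕ, j ≤ n → K.ExactAt j) ∧
    (∀ j : ℕ, n + 1 < j → IsZero (K.X j)) ∧ (∀ j : ℕ, 1 ≤ j → j ≤ n + 1 → P (K.X j))

include hsum hqs hql in
lemma hasPres_iff (n : ℕ) (F : C) : HasPres P F n ↔ GPC P (-(n : ℤ)) ((S0).obj F) := by
  induction n generalizing F with
  | zero =>
    constructor
    · rintro ⟨K, ⟨e⟩, hex, -, hP⟩
      have h0 := (K.exactAt_iff_exact_up_to_refinements 1 0 0 (by simp) (by simp)).1 (hex 0 le_rfl)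
      haveI : Epi (K.d 1 0) := by
        rw [epi_iff_surjective_up_to_refinements]
        exact fun A y => h0 y (by simp)
      simpa using gpc_of_FT hsum hqs hql (fun i hi => isZero_H_single F i hi.ne')
        (FT_iso (H0single F).symm (FT_of_epi (K.d 1 0 ≫ e.hom) (FT_self (hP 1 le_rfl le_rfl))))
    · intro h
      obtain ⟨E, π, hE, hπ⟩ := FT_iso (H0single F) (FT_H_of_gpc hqs (by simpa using h)
        fun i hi => isZero_H_single F i hi.ne')
      let A : ChainComplex C ℕ := (ChainComplex.single₀ C).obj E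
      refine ⟨A.augment π (by simp [A]), ⟨Iso.refl _⟩, fun j hj => ?_, fun j hj => ?_, fun j h1 h2 => ?_⟩
      · obtain rfl : j = 0 := by omega
        rw [exactAt_iff_exact_up_to_refinements _ 1 0 0 (by simp) (by simp)]
        intro A' x _
        obtain ⟨A'', p, hp, y, hy⟩ := surjective_up_to_refinements_of_epi π x
        exact ⟨A'', p, hp, y, hy⟩
      · obtain ⟨k, rfl⟩ : ∃ k, j = k + 2 := ⟨j - 2, by omega⟩
        exact isZero_single_obj_X (ComplexShape.down ℕ) 0 E (k + 1) (Nat.succ_ne_zero k)
      · obtain rfl : j = 1 := by omega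
        exact hE
  | succ n ih =>
    constructor
    · rintro ⟨K, ⟨e⟩, hex, hz, hP⟩
      have h0 := (K.exactAt_iff_exact_up_to_refinements 1 0 0 (by simp) (by simp)).1 (hex 0 (by omega))
      haveI : Epi (K.d 1 0) := by
        rw [epi_iff_surjective_up_to_refinements]
        exact fun A y => h0 y (by simp)
      let π := K.d 1 0 ≫ e.hom
      let T := ChainComplex.truncate.obj (ChainComplex.truncate.obj K)
      let g : T.X 0 ⟶ kernel π := kernel.lift π (K.d 2 1) (by simp [π])
      have hg : g ≫ kernel.ι π = K.d 2 1 := kernel.lift_ι _ _ _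
      let K' := T.augment g (by
        rw [← cancel_mono (kernel.ι π), Category.assoc, hg]
        simp [T])
      have hS : (ShortComplex.mk (kernel.ι π) π (kernel.condition π)).ShortExact :=
        { exact := ShortComplex.exact_kernel π }
      refine gpc_cone hsum hqs hql hS.singleTriangle_distinguished ?_ (gpc_of_mem (hP 1 le_rfl (by omega)) _)
      refine gpc_mono (by push_cast; omega) ((ih (kernel π)).1 ⟨K', ⟨Iso.refl _⟩, fun j hj => ?_, fun j hj => ?_,
        fun j h1 h2 => ?_⟩)
      · match j with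
        | 0 =>
          rw [exactAt_iff_exact_up_to_refinements _ 1 0 0 (by simp) (by simp)]
          intro A x _
          obtain ⟨A', p, hp, y, hy⟩ := (K.exactAt_iff_exact_up_to_refinements 2 1 0 (by simp) (by simp)).1
            (hex 1 (by omega)) (x ≫ kernel.ι π) (by
              rw [← cancel_mono e.hom, Category.assoc, Category.assoc, zero_comp]
              exact (congrArg (x ≫ ·) (kernel.condition π)).trans comp_zero)
          refine ⟨A', p, hp, y, (cancel_mono (kernel.ι π)).1 ?_⟩
          rw [Category.assoc, hy]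
          exact ((Category.assoc _ _ _).trans (congrArg (y ≫ ·) hg)).symm
        | 1 =>
          rw [exactAt_iff_exact_up_to_refinements _ 2 1 0 (by simp) (by simp)]
          intro A x hx
          have hx' : x ≫ K.d 2 1 = 0 := by
            rw [← hg]
            exact ((Category.assoc _ _ _).symm.trans (congrArg (· ≫ kernel.ι π) hx)).trans zero_comp
          exact (K.exactAt_iff_exact_up_to_refinements 3 2 1 (by simp) (by simp)).1
            (hex 2 (by omega)) x hx'
        | j + 2 =>
          rw [exactAt_iff_exact_up_to_refinements _ (j + 3) (j + 2) (j + 1) (by simp) (by simp)]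
          exact (K.exactAt_iff_exact_up_to_refinements (j + 4) (j + 3) (j + 2) (by simp) (by simp)).1
            (hex (j + 3) (by omega))
      · match j with
        | j + 1 => exact hz (j + 2) (by omega)
      · match j with
        | j + 1 => exact hP (j + 2) (by omega) (by omega)
    · intro h
      obtain ⟨E, π, hE, hπ⟩ := FT_iso (H0single F) (FT_H_of_gpc hqs (gpc_mono (m := 0) (by push_cast; omega) h)
        fun i hi => isZero_H_single F i hi.ne')
      have hS : (ShortComplex.mk (kernel.ι π) π (kernel.condition π)).ShortExact :=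
        { exact := ShortComplex.exact_kernel π }
      have hk := gpc_fst hsum hqs hql (n := -((n + 1 : ℕ) : ℤ)) hS.singleTriangle_distinguished
        (gpc_of_mem hE _) h
      obtain ⟨K, ⟨e⟩, hex, hz, hP⟩ := (ih (kernel π)).2 (gpc_mono (by push_cast; omega) hk)
      let g : K.X 1 ⟶ E := K.d 1 0 ≫ e.hom ≫ kernel.ι π
      let A := (ChainComplex.truncate.obj K).augment g (by simp [g])
      refine ⟨A.augment π (by simp [A, g]), ⟨Iso.refl _⟩, fun j hj => ?_, fun j hj => ?_, fun j h1 h2 => ?_⟩
      · match j with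
        | 0 =>
          rw [exactAt_iff_exact_up_to_refinements _ 1 0 0 (by simp) (by simp)]
          intro A' x _
          obtain ⟨A'', p, hp, y, hy⟩ := surjective_up_to_refinements_of_epi π x
          exact ⟨A'', p, hp, y, hy⟩
        | 1 =>
          rw [exactAt_iff_exact_up_to_refinements _ 2 1 0 (by simp) (by simp)]
          intro A' x hx
          obtain ⟨A'', p, hp, y, hy⟩ := (K.exactAt_iff_exact_up_to_refinements 1 0 0 (by simp) (by simp)).1
            (hex 0 (by omega)) (kernel.lift π x hx ≫ e.inv) (by simp)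
          refine ⟨A'', p, hp, y, ?_⟩
          change p ≫ x = y ≫ g
          simp only [g]
          rw [← reassoc_of% hy, e.inv_hom_id_assoc, kernel.lift_ι]
        | 2 =>
          rw [exactAt_iff_exact_up_to_refinements _ 3 2 1 (by simp) (by simp)]
          intro A' x hx
          have hx' : x ≫ K.d 1 0 = 0 := by
            rw [← cancel_mono (e.hom ≫ kernel.ι π), zero_comp, Category.assoc]
            exact hx
          exact (K.exactAt_iff_exact_up_to_refinements 2 1 0 (by simp) (by simp)).1 (hex 1 (by omega)) x hx'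
        | j + 3 =>
          rw [exactAt_iff_exact_up_to_refinements _ (j + 4) (j + 3) (j + 2) (by simp) (by simp)]
          exact (K.exactAt_iff_exact_up_to_refinements (j + 3) (j + 2) (j + 1) (by simp) (by simp)).1
            (hex (j + 2) (by omega))
      · match j with
        | j + 2 => exact hz (j + 1) (by omega)
      · match j with
        | 1 => exact hE
        | j + 2 => exact hP (j + 1) (by omega) (by omega)

end Presentation

section Functor

variable {C' : Type u'} [Category.{v'} C'] [Abelian C'] [HasDerivedCategory.{w'} C']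
  {P' : ObjectProperty C'} [P'.IsClosedUnderIsomorphisms] [P'.ContainsZero]
  (u : DerivedCategory C ⥤ DerivedCategory C') [u.CommShift ℤ] [u.IsTriangulated] (b : ℤ)
  (hii : ∀ F : DerivedCategory C, (∀ i : ℤ, 0 < i → IsZero ((DerivedCategory.homologyFunctor C i).obj F)) →
    ∀ i : ℤ, b < i → IsZero ((DerivedCategory.homologyFunctor C' i).obj (u.obj F)))

/-- Shift and homology. -/
noncomputable def shiftH {D : Type u'} [Category.{v'} D] [Abelian D] [HasDerivedCategory.{w'} D]
    (n a a' : ℤ) (h : n + a = a') (F : DerivedCategory D) :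
    (DerivedCategory.homologyFunctor D a).obj (F⟦n⟧) ≅ (DerivedCategory.homologyFunctor D a').obj F :=
  ((DerivedCategory.homologyFunctor D 0).shiftIso n a a' h).app F

include hii in
lemma acyclic_obj (n : ℤ) (F : DerivedCategory C)
    (hac : ∀ i : ℤ, n < i → IsZero ((HF i).obj F)) (i : ℤ) (hi : n + b < i) :
    IsZero ((DerivedCategory.homologyFunctor C' i).obj (u.obj F)) := by
  have h := hii (F⟦n⟧) (fun j hj => (hac (n + j) (by omega)).of_iso
    (((DerivedCategory.homologyFunctor C 0).shiftIso n j (n + j) rfl).app F)) (i - n) (by omega)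
  exact h.of_iso ((shiftH n (i - n) i (by omega) (u.obj F)).symm ≪≫
    (DerivedCategory.homologyFunctor C' (i - n)).mapIso ((u.commShiftIso n).app F).symm)

include hii in
lemma gpc_obj (hsum : ∀ X Y : C, P X → P Y → P (X ⨯ Y)) (hqs : PCoh.IsQuasiStableUnderKernels P)
    (hql : PCoh.IsQuasiLiftable P) (hsum' : ∀ X Y : C', P' X → P' Y → P' (X ⨯ Y))
    (hqs' : PCoh.IsQuasiStableUnderKernels P') (hql' : PCoh.IsQuasiLiftable P')
    (a : ℤ) (hi : ∀ E : C, P E → GPC P' a (u.obj ((S0).obj E)))
    (m n : ℤ) (F : DerivedCategory C) (hF : GPC P m F)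
    (hac : ∀ i : ℤ, n < i → IsZero ((HF i).obj F)) :
    GPC P' (max (m + b) (n + a)) (u.obj F) := by
  by_cases hmn : n < m
  · exact gpc_of_acyclic hsum' hqs' hql' fun i hi => acyclic_obj u b hii n F hac i (by omega)
  obtain ⟨E, hE, hz, ⟨e⟩⟩ := exists_strict_vanishing hsum hqs hql (show m ≤ n + 1 by omega) hF
    fun i hi => hac i (by omega)
  refine gpc_iso (u.mapIso e) ?_
  obtain ⟨t, ht, htn⟩ : ∃ t : ℕ, (∀ i, m + t ≤ i → IsZero (E.X i)) ∧ m + t ≤ n + 1 :=
    ⟨(n + 1 - m).toNat, fun i hi => hz i (by omega), by omega⟩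
  clear hz e
  induction t generalizing E with
  | zero =>
    refine gpc_of_acyclic hsum' hqs' hql' fun i hi => acyclic_obj u b hii (m - 1) _ (fun j hj => ?_) i
      (by omega)
    rw [isZero_H_iff]
    exact ShortComplex.isZero_homology_of_isZero_X₂ _ (ht j (by simp; omega))
  | succ t ih =>
    obtain ⟨G, ι, hm, hiso, hzG⟩ := exists_sigma E (m + t)
    haveI := hm
    have hG : ∀ i, i ≠ m + t → IsZero (G.X i) := fun i h => by
      rcases lt_or_gt_of_ne h with h | h
      · exact hzG i h
      · haveI := hiso i h.le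
        exact (ht i (by push_cast; omega)).of_iso (asIso (ι.f i))
    have hcz : ∀ i, m + t ≤ i → IsZero ((cokernel ι).X i) := fun i h => by
      haveI := hiso i h
      exact (coker_X ι i).1 inferInstance
    refine gpc_mid hsum' hqs' hql'
      (u.map_distinguished _ (DerivedCategory.triangleOfSES_distinguished (coker_ses ι))) ?_ ?_
    · haveI := hiso (m + t) le_rfl
      refine gpc_iso ((u.commShiftIso (-(m + t : ℤ))).symm.app _ ≪≫ u.mapIso (Q_single G (m + t) hG).some)
        (gpc_mono (n := a + (m + t)) (by push_cast at htn; omega)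
          (gpc_shift (hi _ (P.prop_of_iso (asIso (ι.f (m + t))).symm (hE.2 _ (by omega))))
            (-(m + t)) (a + (m + t)) (by omega)))
    · refine ih (cokernel ι) ⟨⟨m + t, fun i h => hcz i h.le⟩, fun i h => ?_⟩ hcz (by push_cast at htn; omega)
      by_cases h' : m + t ≤ i
      · exact P_zero (hcz i h')
      · haveI := (coker_X ι i).2 (hzG i (by omega))
        exact P.prop_of_iso (asIso ((cokernel.π ι).f i)) (hE.2 i h)

end Functor

end Groth.Agent.PCohLib
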