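import Groth.Agent.PCohLib.Infinite
import Mathlib.Algebra.Homology.DerivedCategory.KProjective

/-! Perfect objects relative to a liftable class stable under kernels of epimorphisms. -/

set_option autoImplicit false
set_option backward.isDefEq.respectTransparency false
set_option backward.defeqAttrib.useBackward true
set_option linter.style.haveILetI false
set_option linter.unusedSectionVars false

universe w v u

open CategoryTheory CategoryTheory.Limits CategoryTheory.Pretriangulated HomologicalComplex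
open CochainComplex CochainComplex.HomComplex
open DerivedCategory (Q)

namespace Groth.Agent.PCohLib

variable {C : Type u} [Category.{v} C] [Abelian C]
  {P : ObjectProperty C} [P.IsClosedUnderIsomorphisms] [P.ContainsZero]
  (hsum : ∀ X Y : C, P X → P Y → P (X ⨯ Y))
  (hlift : ∀ (E F : C) (u : E ⟶ F), Epi u → P F → IsSplitEpi u)
  (hst : ∀ (E F : C) (u : E ⟶ F), Epi u → P E → P F → P (kernel u))

include hlift in
lemma projective_of_P {A : C} (hA : P A) : Projective A where
  factors f e _ := by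
    haveI : IsSplitEpi (pullback.snd e f) := hlift _ _ _ inferInstance hA
    refine ⟨section_ (pullback.snd e f) ≫ pullback.fst e f, ?_⟩
    rw [Category.assoc, pullback.condition, IsSplitEpi.id_assoc]

include hlift in
lemma quasiLiftable_of_lift : PCoh.IsQuasiLiftable P := fun E F u hu hF => by
  haveI := hlift E F u hu hF
  exact ⟨F, section_ u, hF, by rw [IsSplitEpi.id]; infer_instance⟩

include hst in
lemma quasiStable_of_stable : PCoh.IsQuasiStableUnderKernels P := by
  intro K hex hfin hP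
  obtain ⟨n, hn⟩ := hfin
  have key : ∀ t j : ℕ, n < j + t → 1 ≤ j → P (kernel (K.d j (j + 1))) := by
    intro t
    induction t with
    | zero =>
      intro j hj _
      exact P_zero (IsZero.of_mono (kernel.ι (K.d j (j + 1))) (hn j (by omega)))
    | succ t ih =>
      intro j hj hj1
      let l : K.X j ⟶ kernel (K.d (j + 1) (j + 2)) := kernel.lift _ (K.d j (j + 1)) (K.d_comp_d _ _ _)
      haveI : Epi l := by
        rw [epi_iff_surjective_up_to_refinements]
        intro A y
        obtain ⟨A', π, hπ, x, hx⟩ := (K.exactAt_iff_exact_up_to_refinements j (j + 1) (j + 2)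
          (by simp) (by simp)).1 (hex (j + 1)) (y ≫ kernel.ι _) (by simp)
        refine ⟨A', π, hπ, x, ?_⟩
        rw [← cancel_mono (kernel.ι (K.d (j + 1) (j + 2))), Category.assoc, hx, Category.assoc,
          kernel.lift_ι]
      have := hst _ _ l inferInstance (hP j hj1) (ih (j + 1) (by omega) (by omega))
      exact P.prop_of_iso ((kernelCompMono l (kernel.ι _)).symm ≪≫
        kernelIsoOfEq (kernel.lift_ι _ _ _)) this
  have h0 := (K.exactAt_iff_exact_up_to_refinements 0 0 1 (by simp) (by simp)).1 (hex 0)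
  have h1 := (K.exactAt_iff_exact_up_to_refinements 0 1 2 (by simp) (by simp)).1 (hex 1)
  haveI : Mono (K.d 0 1) := Preadditive.mono_of_cancel_zero _ fun x hx => by
    obtain ⟨A', π, hπ, y, hy⟩ := h0 x hx
    rw [← cancel_epi π, hy]; simp
  let l : K.X 0 ⟶ kernel (K.d 1 2) := kernel.lift _ (K.d 0 1) (K.d_comp_d _ _ _)
  haveI : Mono (l ≫ kernel.ι _) := by rw [kernel.lift_ι]; infer_instance
  haveI : Mono l := mono_of_mono l (kernel.ι _)
  haveI : Epi l := by
    rw [epi_iff_surjective_up_to_refinements]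
    intro A y
    obtain ⟨A', π, hπ, x, hx⟩ := h1 (y ≫ kernel.ι _) (by simp)
    refine ⟨A', π, hπ, x, ?_⟩
    rw [← cancel_mono (kernel.ι (K.d 1 2)), Category.assoc, hx, Category.assoc, kernel.lift_ι]
  haveI : IsIso l := isIso_of_mono_of_epi l
  exact FT_iso (asIso l).symm (FT_self (key n 1 (by omega) le_rfl))

include hlift in
lemma exists_Q_map [HasDerivedCategory.{w} C] {E F : CochainComplex C ℤ} (b : ℤ)
    (hb : ∀ i, b < i → IsZero (E.X i)) (hP : ∀ i, P (E.X i)) (f : Q.obj E ⟶ Q.obj F) :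
    ∃ g : E ⟶ F, Q.map g = f := by
  haveI : E.IsStrictlyLE b := (E.isStrictlyLE_iff b).2 hb
  haveI : ∀ i, Projective (E.X i) := fun i => projective_of_P hlift (hP i)
  haveI := CochainComplex.isKProjective_of_projective E b
  obtain ⟨h, hh⟩ := (CochainComplex.IsKProjective.Qh_map_bijective E _).2
    ((DerivedCategory.quotientCompQhIso C).hom.app E ≫ f ≫
      (DerivedCategory.quotientCompQhIso C).inv.app F)
  obtain ⟨g, rfl⟩ := (HomotopyCategory.quotient _ _).map_surjective h
  refine ⟨g, (cancel_epi ((DerivedCategory.quotientCompQhIso C).hom.app E)).1 ?_⟩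
  rw [← DerivedCategory.quotientCompQhIso_hom_naturality, hh]
  simp

include hsum hlift in
lemma perfect_cone [HasDerivedCategory.{w} C] {T : Triangle (DerivedCategory C)}
    (hT : T ∈ distinguishedTriangles) {E F : CochainComplex C ℤ} (a b a' b' : ℤ)
    (hzE : ∀ i, i < a ∨ b < i → IsZero (E.X i)) (hPE : ∀ i, P (E.X i))
    (hzF : ∀ i, i < a' ∨ b' < i → IsZero (F.X i)) (hPF : ∀ i, P (F.X i))
    (e₁ : Q.obj E ≅ T.obj₁) (e₂ : Q.obj F ≅ T.obj₂) :
    ∃ (G : CochainComplex C ℤ) (c d : ℤ), (∀ i : ℤ, i < c ∨ d < i → IsZero (G.X i)) ∧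
      (∀ i : ℤ, P (G.X i)) ∧ Nonempty (Q.obj G ≅ T.obj₃) := by
  obtain ⟨g, hg⟩ := exists_Q_map hlift b (fun i hi => hzE i (Or.inr hi)) hPE
    (e₁.hom ≫ T.mor₁ ≫ e₂.inv)
  refine ⟨mappingCone g, min (a - 1) a', max b b', fun i hi => ?_, fun i => ?_,
    ⟨Triangle.π₃.mapIso (isoTriangleOfIso₁₂ _ _ (cone_distinguished g) hT e₁ e₂ ?_)⟩⟩
  · refine IsZero.of_iso ((biprod_isZero_iff _ _).2 ⟨?_, ?_⟩) (cone_X_iso g i).some
    · apply hzE; rcases hi with h | h <;> omega
    · apply hzF; rcases hi with h | h <;> omega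
  · exact P.prop_of_iso (cone_X_iso g i).some.symm (P_biprod hsum (hPE _) (hPF i))
  · change Q.map g ≫ e₂.hom = e₁.hom ≫ T.mor₁
    rw [hg]; simp

include hst in
/-- Cutting an acyclic top degree. -/
lemma exists_cut (F : CochainComplex C ℤ) (c : ℤ) (hP : ∀ i, P (F.X i))
    (hz : ∀ i, c < i → IsZero (F.X i)) (hH : IsZero (F.homology c)) :
    ∃ (F' : CochainComplex C ℤ) (ι : F' ⟶ F), QuasiIso ι ∧ (∀ i, Mono (ι.f i)) ∧
      (∀ i, P (F'.X i)) ∧ ∀ i, c ≤ i → IsZero (F'.X i) := by
  classical
  let S : ∀ i, Subobject (F.X i) := fun i =>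
    if i + 1 < c then ⊤ else if i + 1 = c then kernelSubobject (F.d i (i + 1)) else ⊥
  have htop : ∀ i, i + 1 < c → ∀ {A : C} (x : A ⟶ F.X i), (S i).Factors x := by
    intro i hi A x
    simp only [S, if_pos hi]
    exact Subobject.top_factors x
  have hker : ∀ i, i + 1 = c → S i = kernelSubobject (F.d i (i + 1)) := fun i hi => by
    simp only [S, if_neg (show ¬ i + 1 < c by omega), if_pos hi]
  have hbot : ∀ i, c ≤ i → IsZero (S i : C) := fun i hi =>
    IsZero.of_iso (isZero_zero C) (eqToIso (congrArg (fun T : Subobject (F.X i) => (T : C))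
      (show S i = ⊥ by simp only [S, if_neg (show ¬ i + 1 < c by omega),
        if_neg (show ¬ i + 1 = c by omega)])) ≪≫ Subobject.botCoeIsoZero)
  have hst' : ∀ i, (S (i + 1)).Factors ((S i).arrow ≫ F.d i (i + 1)) := by
    intro i
    rcases lt_trichotomy (i + 1 + 1) c with h | h | h
    · exact htop _ h _
    · rw [hker _ h, kernelSubobject_factors_iff, Category.assoc, F.d_comp_d, comp_zero]
    · have h0 : (S i).arrow ≫ F.d i (i + 1) = 0 := by
        rcases lt_or_eq_of_le (show c ≤ i + 1 by omega) with h' | h'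
        · rw [(hbot i (by omega)).eq_of_src (S i).arrow 0, zero_comp]
        · exact (kernelSubobject_factors_iff _ _).1
            ((congrArg (fun T : Subobject (F.X i) => T.Factors (S i).arrow) (hker i h'.symm)).mp
              (Subobject.factors_self _))
      rw [h0]
      exact Subobject.factors_zero
  obtain ⟨F', ι, e, he, hm⟩ := exists_subcomplex F (fun i => (S i : C)) (fun i => (S i).arrow)
    (fun i => ⟨(S (i + 1)).factorThru _ (hst' i), Subobject.factorThru_arrow _ _ _⟩)
  haveI := hm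
  have hfac : ∀ i {A : C} (x : A ⟶ F.X i), (S i).Factors x → ∃ l, l ≫ ι.f i = x := fun i A x h =>
    ⟨(S i).factorThru x h ≫ (e i).inv, by simp [he]⟩
  refine ⟨F', ι, ⟨fun i => ?_⟩, hm, fun i => ?_, fun i hi => (hbot i hi).of_iso (e i)⟩
  · rw [quasiIsoAt_iff_isIso_homologyMap]
    obtain ⟨j, rfl⟩ : ∃ j, i = j + 1 := ⟨i - 1, by omega⟩
    haveI : Mono (homologyMap ι (j + 1)) := by
      rw [mono_homologyMap_iff_up_to_refinements _ j (j + 1) (j + 1 + 1) (by simp) (by simp)]
      intro A x hx y hy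
      by_cases h : j + 1 < c
      · obtain ⟨l, rfl⟩ := hfac j y (htop j h y)
        refine ⟨A, 𝟙 A, inferInstance, l, ?_⟩
        rw [← cancel_mono (ι.f (j + 1)), Category.assoc, Category.id_comp, hy, Category.assoc,
          Category.assoc, ← ι.comm]
      · exact ⟨A, 𝟙 A, inferInstance, 0, ((hbot _ (by omega)).of_iso (e _)).eq_of_tgt _ _⟩
    haveI : Epi (homologyMap ι (j + 1)) := by
      rw [epi_homologyMap_iff_up_to_refinements _ j (j + 1) (j + 1 + 1) (by simp) (by simp)]
      intro A y hy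
      have hin : j + 1 < c → ∃ l, l ≫ ι.f (j + 1) = y := fun h => hfac _ y (by
        rcases lt_or_eq_of_le (show j + 1 + 1 ≤ c by omega) with h' | h'
        · exact htop _ h' y
        · rw [hker _ h', kernelSubobject_factors_iff]; exact hy)
      rcases lt_trichotomy (j + 1) c with h | h | h
      · obtain ⟨l, hl⟩ := hin h
        refine ⟨A, 𝟙 A, inferInstance, l, ?_, 0, by simp [hl]⟩
        rw [← cancel_mono (ι.f (j + 1 + 1)), Category.assoc, ← ι.comm, reassoc_of% hl, hy, zero_comp]
      · have hex : F.ExactAt (j + 1) := by rw [exactAt_iff_isZero_homology, h]; exact hH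
        obtain ⟨A', π, hπ, y₁, h₁⟩ := (F.exactAt_iff_exact_up_to_refinements j (j + 1) (j + 1 + 1)
          (by simp) (by simp)).1 hex y hy
        exact ⟨A', π, hπ, 0, by simp, y₁, by simp [h₁]⟩
      · exact ⟨A, 𝟙 A, inferInstance, 0, by simp, 0, (hz _ h).eq_of_tgt _ _⟩
    exact isIso_of_mono_of_epi _
  · rcases lt_trichotomy (i + 1) c with h | h | h
    · haveI : IsIso (S i).arrow := by
        rw [Subobject.isIso_arrow_iff_eq_top]; simp only [S, if_pos h]
      exact P.prop_of_iso (e i ≪≫ asIso (S i).arrow).symm (hP i)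
    · haveI : Epi (F.d i (i + 1)) := by
        rw [epi_iff_surjective_up_to_refinements]
        have hex : F.ExactAt (i + 1) := by rw [exactAt_iff_isZero_homology, h]; exact hH
        exact fun A y => (F.exactAt_iff_exact_up_to_refinements i (i + 1) (i + 1 + 1)
          (by simp) (by simp)).1 hex y ((hz _ (by omega)).eq_of_tgt _ _)
      exact P.prop_of_iso (e i ≪≫ eqToIso (congrArg (fun T : Subobject (F.X i) => (T : C)) (hker i h))
        ≪≫ kernelSubobjectIso _).symm (hst _ _ _ inferInstance (hP i) (hP (i + 1)))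
    · exact P_zero ((hbot i (by omega)).of_iso (e i))

include hst in
lemma exists_truncated [HasDerivedCategory.{w} C] (a b c : ℤ) (hab : a ≤ b) (F : CochainComplex C ℤ)
    (hP : ∀ i : ℤ, P (F.X i)) (hvan : ∀ i : ℤ, i < a ∨ c < i → IsZero (F.X i))
    (hcoh : ∀ i : ℤ, b < i → IsZero (F.homology i)) :
    ∃ F' : CochainComplex C ℤ, (∀ i : ℤ, P (F'.X i)) ∧
      (∀ i : ℤ, i < a ∨ min b c < i → IsZero (F'.X i)) ∧ Nonempty (Q.obj F' ≅ Q.obj F) := by
  obtain ⟨t, ht⟩ : ∃ t : ℕ, c ≤ b + t := ⟨(c - b).toNat, by omega⟩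
  induction t generalizing F c with
  | zero =>
    exact ⟨F, hP, fun i hi => hvan i (by rcases hi with h | h <;> omega), ⟨Iso.refl _⟩⟩
  | succ t ih =>
    by_cases hc : c ≤ b
    · exact ⟨F, hP, fun i hi => hvan i (by rcases hi with h | h <;> omega), ⟨Iso.refl _⟩⟩
    obtain ⟨F₁, ι, hq, hm, hP₁, hz₁⟩ :=
      exists_cut hst F c hP (fun i hi => hvan i (Or.inr hi)) (hcoh c (by omega))
    haveI := hm
    obtain ⟨F', hP', hv', ⟨e⟩⟩ := ih (c - 1) F₁ hP₁ (fun i hi => by
      rcases hi with h | h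
      · exact IsZero.of_mono (ι.f i) (hvan i (Or.inl h))
      · exact hz₁ i (by omega)) (fun i hi => (hcoh i hi).of_iso (asIso (homologyMap ι i))) (by omega)
    exact ⟨F', hP', fun i hi => hv' i (by rcases hi with h | h <;> omega),
      ⟨e ≪≫ asIso (Q.map ι)⟩⟩

include hsum hlift hst in
lemma mem_first_term [HasDerivedCategory.{w} C] (a b : ℤ) (F : CochainComplex C ℤ)
    (hvan : ∀ i : ℤ, i < a ∨ b < i → IsZero (F.X i)) (hP : ∀ i : ℤ, a < i → P (F.X i))
    (E : CochainComplex C ℤ) (hPE : ∀ i : ℤ, P (E.X i))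
    (hvE : ∀ i : ℤ, i < a ∨ b < i → IsZero (E.X i)) (e : Q.obj E ≅ Q.obj F) : P (F.X a) := by
  by_cases hab : b < a
  · exact P_zero (hvan a (Or.inr hab))
  obtain ⟨φ, hφ⟩ := exists_Q_map hlift b (fun i hi => hvE i (Or.inr hi)) hPE e.hom
  haveI : QuasiIso φ := (DerivedCategory.isIso_Q_map_iff_quasiIso _ φ).1 (by rw [hφ]; infer_instance)
  let K := mappingCone φ
  have hex : ∀ i, K.ExactAt i := fun i => (exactAt_iff_isZero_homology _ _).2
    ((nQis_iff_cone φ i).1 (nQis_of_quasiIso φ i) i le_rfl)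
  have hX : ∀ i, i ≠ a → P (K.X i) := fun i hi => P.prop_of_iso (cone_X_iso φ i).some.symm
    (P_biprod hsum (hPE _) (by
      rcases lt_or_gt_of_ne hi with h | h
      · exact P_zero (hvan i (Or.inl h))
      · exact hP i h))
  have hzb : ∀ i, b < i → IsZero (K.X i) := fun i hi =>
    IsZero.of_iso ((biprod_isZero_iff _ _).2 ⟨hvE _ (Or.inr (by omega)), hvan i (Or.inr hi)⟩)
      (cone_X_iso φ i).some
  have hlow : ∀ i, i + 1 < a → IsZero (K.X i) := fun i hi =>
    IsZero.of_iso ((biprod_isZero_iff _ _).2 ⟨hvE _ (Or.inl (by omega)), hvan i (Or.inl (by omega))⟩)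
      (cone_X_iso φ i).some
  have hl : ∀ i j k : ℤ, i + 1 = j → j + 1 = k → ∃ (l : K.X i ⟶ kernel (K.d j k)),
      Epi l ∧ l ≫ kernel.ι _ = K.d i j := by
    intro i j k hij hjk
    refine ⟨kernel.lift _ (K.d i j) (K.d_comp_d _ _ _), ?_, kernel.lift_ι _ _ _⟩
    rw [epi_iff_surjective_up_to_refinements]
    intro A y
    obtain ⟨A', π, hπ, x, hx⟩ := (K.exactAt_iff_exact_up_to_refinements i j k
      (by simp; omega) (by simp; omega)).1 (hex j) (y ≫ kernel.ι _) (by simp)
    refine ⟨A', π, hπ, x, ?_⟩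
    rw [← cancel_mono (kernel.ι (K.d j k)), Category.assoc, hx, Category.assoc, kernel.lift_ι]
  have key : ∀ (t : ℕ) (j k : ℤ), j + 1 = k → a < j → b < j + t → P (kernel (K.d j k)) := by
    intro t
    induction t with
    | zero =>
      intro j k _ _ hbj
      exact P_zero (IsZero.of_mono (kernel.ι (K.d j k)) (hzb j (by omega)))
    | succ t ih =>
      intro j k hjk haj hbj
      obtain ⟨l, hle, hlc⟩ := hl j k (k + 1) hjk rfl
      exact P.prop_of_iso ((kernelCompMono l (kernel.ι _)).symm ≪≫ kernelIsoOfEq hlc)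
        (hst _ _ l hle (hX j (by omega)) (ih k (k + 1) rfl (by omega) (by omega)))
  obtain ⟨l, hle, hlc⟩ := hl a (a + 1) (a + 1 + 1) rfl rfl
  have hZ : P (kernel (K.d (a + 1) (a + 1 + 1))) :=
    key (b - a).toNat (a + 1) (a + 1 + 1) rfl (by omega) (by omega)
  obtain ⟨l', hle', hlc'⟩ := hl (a - 1) a (a + 1) (by omega) rfl
  haveI : Mono l' := by
    haveI : Mono (l' ≫ kernel.ι (K.d a (a + 1))) := by
      rw [hlc']
      exact Preadditive.mono_of_cancel_zero _ fun x hx => by
        obtain ⟨A', π, hπ, y, hy⟩ := (K.exactAt_iff_exact_up_to_refinements (a - 1 - 1) (a - 1) a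
          (by simp) (by simp)).1 (hex (a - 1)) x hx
        rw [← cancel_epi π, hy, (hlow (a - 1 - 1) (by omega)).eq_of_tgt y 0]
        simp
    exact mono_of_mono l' (kernel.ι _)
  haveI := hle'
  haveI : IsIso l' := isIso_of_mono_of_epi l'
  have hk : P (kernel l) := P.prop_of_iso
    (asIso l' ≪≫ (kernelIsoOfEq hlc).symm ≪≫ kernelCompMono l (kernel.ι _)) (hX (a - 1) (by omega))
  haveI := hlift _ _ l hle hZ
  have hKa : P (K.X a) := P.prop_of_iso
    ((ShortComplex.Splitting.ofExactOfSection (ShortComplex.mk (kernel.ι l) l (kernel.condition l))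
      (ShortComplex.exact_kernel l) (section_ l) (IsSplitEpi.id l)
      (inferInstanceAs (Mono (kernel.ι l)))).isoBinaryBiproduct.symm) (P_biprod hsum hk hZ)
  exact P.prop_of_iso kernelBiprodFstIso
    (hst _ _ (biprod.fst : E.X (a + 1) ⊞ F.X a ⟶ _) inferInstance
      (P.prop_of_iso (cone_X_iso φ a).some hKa) (hPE _))

/-- Canonical truncation from below, as a quotient. -/
lemma exists_truncGE [HasDerivedCategory.{w} C] (G : CochainComplex C ℤ) (a : ℤ)
    (hH : ∀ i, i < a → IsZero (G.homology i)) :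
    ∃ (T : CochainComplex C ℤ), Nonempty (Q.obj G ≅ Q.obj T) ∧ (∀ i, i < a → IsZero (T.X i)) ∧
      (∀ i, a < i → Nonempty (G.X i ≅ T.X i)) := by
  classical
  let S : ∀ i, Subobject (G.X i) := fun i =>
    if i < a then ⊤ else if i = a then imageSubobject (G.d (i - 1) i) else ⊥
  have htop : ∀ i, i < a → S i = ⊤ := fun i hi => by simp only [S, if_pos hi]
  have him : S a = imageSubobject (G.d (a - 1) a) := by simp [S]
  have hbot : ∀ i, a < i → IsZero (S i : C) := fun i hi =>
    IsZero.of_iso (isZero_zero C) (eqToIso (congrArg (fun T : Subobject (G.X i) => (T : C))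
      (show S i = ⊥ by simp only [S, if_neg (show ¬ i < a by omega),
        if_neg (show ¬ i = a by omega)])) ≪≫ Subobject.botCoeIsoZero)
  have hst' : ∀ i, (S (i + 1)).Factors ((S i).arrow ≫ G.d i (i + 1)) := by
    intro i
    rcases lt_trichotomy (i + 1) a with h | h | h
    · rw [htop _ h]; exact Subobject.top_factors _
    · subst h
      rw [him, show i + 1 - 1 = i by omega]
      exact imageSubobject_factors_comp_self (G.d i (i + 1)) (S i).arrow
    · have h0 : (S i).arrow ≫ G.d i (i + 1) = 0 := by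
        rcases eq_or_lt_of_le (show a ≤ i by omega) with rfl | h'
        · rw [him, ← cancel_epi (factorThruImageSubobject (G.d (a - 1) a)),
            imageSubobject_arrow_comp_assoc, G.d_comp_d, comp_zero]
        · rw [(hbot i h').eq_of_src (S i).arrow 0, zero_comp]
      rw [h0]
      exact Subobject.factors_zero
  obtain ⟨A, ι, e, he, hm⟩ := exists_subcomplex G (fun i => (S i : C)) (fun i => (S i).arrow)
    (fun i => ⟨(S (i + 1)).factorThru _ (hst' i), Subobject.factorThru_arrow _ _ _⟩)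
  haveI := hm
  have hiso : ∀ i, i < a → IsIso (ι.f i) := fun i hi => by
    haveI : IsIso (S i).arrow := by rw [Subobject.isIso_arrow_iff_eq_top]; exact htop i hi
    rw [he]; infer_instance
  have hA : ∀ i, IsZero (A.homology i) := by
    intro i
    rw [← exactAt_iff_isZero_homology, A.exactAt_iff_exact_up_to_refinements (i - 1) i (i + 1)
      (by simp) (by simp)]
    intro B x hx
    rcases lt_trichotomy i a with h | h | h
    · obtain ⟨B', π, hπ, y, hy⟩ := (G.exactAt_iff_exact_up_to_refinements (i - 1) i (i + 1)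
        (by simp) (by simp)).1 ((exactAt_iff_isZero_homology _ _).2 (hH i h)) (x ≫ ι.f i)
        (by rw [Category.assoc, ι.comm, reassoc_of% hx, zero_comp])
      haveI := hiso (i - 1) (by omega)
      refine ⟨B', π, hπ, y ≫ inv (ι.f (i - 1)), ?_⟩
      rw [← cancel_mono (ι.f i), Category.assoc, hy, Category.assoc, Category.assoc, ← ι.comm,
        IsIso.inv_hom_id_assoc]
    · subst h
      let c : G.X (i - 1) ⟶ (S i : C) :=
        factorThruImageSubobject (G.d (i - 1) i) ≫ eqToHom (congrArg (fun T : Subobject (G.X i) => (T : C)) him).symm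
      have hc : c ≫ (S i).arrow = G.d (i - 1) i := by
        simp [c, Subobject.arrow_congr _ _ him.symm]
      obtain ⟨B', π, hπ, y, hy⟩ := surjective_up_to_refinements_of_epi c (x ≫ (e i).hom)
      haveI := hiso (i - 1) (by omega)
      refine ⟨B', π, hπ, y ≫ inv (ι.f (i - 1)), ?_⟩
      rw [← cancel_mono (ι.f i), Category.assoc, Category.assoc, Category.assoc, ← ι.comm,
        IsIso.inv_hom_id_assoc, he, ← hc, ← reassoc_of% hy]
    · exact ⟨B, 𝟙 B, inferInstance, 0, ((hbot i h).of_iso (e i)).eq_of_tgt _ _⟩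
  have hT := DerivedCategory.triangleOfSES_distinguished (coker_ses ι)
  haveI : IsIso (Q.map (cokernel.π ι)) := (Triangle.isZero₁_iff_isIso₂ _ hT).1 (by
    obtain ⟨Z, hZ⟩ : ∃ Z : CochainComplex C ℤ, IsZero Z := HasZeroObject.zero
    have h0 := fun i => (HomologicalComplex.homologyFunctor C _ i).map_isZero hZ
    haveI : QuasiIso (0 : A ⟶ Z) := ⟨fun i => by
      rw [quasiIsoAt_iff_isIso_homologyMap]
      exact ⟨0, (hA i).eq_of_src _ _, (h0 i).eq_of_src _ _⟩⟩
    exact (Q.map_isZero hZ).of_iso (asIso (Q.map (0 : A ⟶ Z))))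
  refine ⟨cokernel ι, ⟨asIso (Q.map (cokernel.π ι))⟩, fun i hi => ?_, fun i hi => ?_⟩
  · haveI := hiso i hi
    exact (coker_X ι i).1 inferInstance
  · haveI := (coker_X ι i).2 ((hbot i hi).of_iso (e i))
    exact ⟨asIso ((cokernel.π ι).f i)⟩

end Groth.Agent.PCohLib
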