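import Groth.Agent.PCohLib.Cone

/-! The step and the finite descent of the construction of resolutions by objects of `P`. -/

set_option autoImplicit false
set_option backward.isDefEq.respectTransparency false
set_option backward.defeqAttrib.useBackward true
set_option linter.style.haveILetI false
set_option linter.unusedSectionVars false

universe w v u

open CategoryTheory CategoryTheory.Limits CategoryTheory.Pretriangulated HomologicalComplex
open CochainComplex CochainComplex.HomComplex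
open DerivedCategory (Q)

namespace Groth.Agent.PCohLib

variable {C : Type u} [Category.{v} C] [Abelian C] {P : ObjectProperty C} [P.IsClosedUnderIsomorphisms]

/-- The terms of a mapping cone are biproducts. -/
lemma cone_X_iso {E F : CochainComplex C ℤ} (u : E ⟶ F) (i : ℤ) :
    Nonempty ((mappingCone u).X i ≅ E.X (i + 1) ⊞ F.X i) :=
  ⟨{ hom := biprod.lift ((mappingCone.fst u).1.v i (i + 1) rfl) ((mappingCone.snd u).v i i (add_zero i))
     inv := biprod.desc ((mappingCone.inl u).v (i + 1) i (by omega)) ((mappingCone.inr u).f i)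
     hom_inv_id := by rw [biprod.lift_desc]; exact (mappingCone.id_X u i (i + 1) rfl)
     inv_hom_id := by ext <;> simp }⟩

lemma cone_strict (hsum : ∀ X Y : C, P X → P Y → P (X ⨯ Y)) [P.ContainsZero] {E F : CochainComplex C ℤ}
    (u : E ⟶ F) (n : ℤ) (hE : PCoh.IsStrictPC P (n + 1) E) (hF : PCoh.IsStrictPC P n F) :
    PCoh.IsStrictPC P n (mappingCone u) := by
  obtain ⟨⟨a, ha⟩, hPE⟩ := hE
  obtain ⟨⟨b, hb⟩, hPF⟩ := hF
  refine ⟨⟨max a b, fun i hi => ?_⟩, fun i hi => ?_⟩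
  · exact IsZero.of_iso ((biprod_isZero_iff _ _).2 ⟨ha _ (by omega), hb _ (by omega)⟩)
      (cone_X_iso u i).some
  · exact P.prop_of_iso (cone_X_iso u i).some.symm (P_biprod hsum (hPE _ (by omega)) (hPF i hi))

/-- A degreewise mono which is iso in degrees `≥ n` is an `n`-quasi-isomorphism. -/
lemma nQis_of_isIso_ge {E F : CochainComplex C ℤ} (u : E ⟶ F) (n : ℤ) [∀ i, Mono (u.f i)]
    (h : ∀ i, n ≤ i → IsIso (u.f i)) : NQis u n := by
  have hepi : ∀ i, n ≤ i → Epi (homologyMap u i) := by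
    intro i hi
    rw [epi_homologyMap_iff_up_to_refinements _ (i - 1) i (i + 1) (by simp) (by simp)]
    intro A y hy
    haveI := h i hi
    refine ⟨A, 𝟙 A, inferInstance, y ≫ inv (u.f i), ?_, 0, by simp⟩
    rw [← cancel_mono (u.f (i + 1)), Category.assoc, Category.assoc, ← u.comm,
      IsIso.inv_hom_id_assoc, hy, zero_comp]
  refine ⟨fun i hi => ?_, hepi n le_rfl⟩
  obtain ⟨j, rfl⟩ : ∃ j, i = j + 1 := ⟨i - 1, by omega⟩
  haveI := hepi (j + 1) hi.le
  haveI : Mono (homologyMap u (j + 1)) := by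
    rw [mono_homologyMap_iff_up_to_refinements _ j (j + 1) (j + 1 + 1) (by simp) (by simp)]
    intro A x hx y hy
    haveI := h j (by omega)
    refine ⟨A, 𝟙 A, inferInstance, y ≫ inv (u.f j), ?_⟩
    rw [← cancel_mono (u.f (j + 1)), Category.assoc, Category.assoc, Category.assoc, ← u.comm,
      IsIso.inv_hom_id_assoc, Category.id_comp, hy]
  exact isIso_of_mono_of_epi _

lemma bounded_of_iso_ge {E E' : CochainComplex C ℤ} (v : E ⟶ E') (n : ℤ)
    (h : ∀ i, n ≤ i → IsIso (v.f i)) (hb : ∃ b : ℤ, ∀ i : ℤ, b < i → IsZero (E.X i)) :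
    ∃ b : ℤ, ∀ i : ℤ, b < i → IsZero (E'.X i) := by
  obtain ⟨b, hb⟩ := hb
  refine ⟨max b n, fun i hi => ?_⟩
  haveI := h i (by omega)
  exact (hb i (by omega)).of_iso (asIso (v.f i)).symm

lemma cokernel_inr_iso {E F : CochainComplex C ℤ} (u : E ⟶ F) (i : ℤ) :
    Nonempty (cokernel ((mappingCone.inr u).f i) ≅ E.X (i + 1)) :=
  ⟨{ hom := cokernel.desc _ ((mappingCone.fst u).1.v i (i + 1) rfl) (by simp)
     inv := (mappingCone.inl u).v (i + 1) i (by omega) ≫ cokernel.π _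
     hom_inv_id := by
      rw [← cancel_epi (cokernel.π ((mappingCone.inr u).f i)), cokernel.π_desc_assoc,
        Category.comp_id]
      have := (mappingCone.id_X u i (i + 1) rfl) =≫ cokernel.π ((mappingCone.inr u).f i)
      simpa using this
     inv_hom_id := by simp }⟩

/-- One step: an `(n+1)`-quasi-isomorphism becomes an `n`-one by adding an object of `P`. -/
lemma exists_step [P.ContainsZero] (hsum : ∀ X Y : C, P X → P Y → P (X ⨯ Y))
    (hql : PCoh.IsQuasiLiftable P) {E F : CochainComplex C ℤ} (u : E ⟶ F) (n : ℤ)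
    (hu : NQis u (n + 1)) (hcone : PCoh.IsOfFiniteType P ((mappingCone u).homology n)) :
    ∃ (E' : CochainComplex C ℤ) (v : E ⟶ E') (u' : E' ⟶ F), v ≫ u' = u ∧ (∀ i, Mono (v.f i)) ∧
      (∀ i, i ≠ n → IsIso (v.f i)) ∧ P (cokernel (v.f n)) ∧ (∀ i, P (E.X i) → P (E'.X i)) ∧
      NQis u' n := by
  obtain ⟨G, hG, φ, u', h, hn⟩ := exists_modification hql u n hu hcone
  have hX : ∀ i, P (((CochainComplex.singleFunctor C (n + 1)).obj G).X i) := by
    intro i
    by_cases hi : i = n + 1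
    · subst hi
      exact P.prop_of_iso (singleObjXSelf (.up ℤ) (n + 1) G).symm hG
    · exact P_zero (isZero_single_obj_X _ _ _ _ hi)
  refine ⟨_, mappingCone.inr φ, u', h,
    fun i => mono_of_mono_fac (mappingCone.inr_f_snd_v φ i), fun i hi => ?_,
    P.prop_of_iso (cokernel_inr_iso φ n).some.symm (hX _),
    fun i hE => P.prop_of_iso (cone_X_iso φ i).some.symm (P_biprod hsum (hX _) hE), hn⟩
  refine ⟨(mappingCone.snd φ).v i i (add_zero i), mappingCone.inr_f_snd_v φ i, ?_⟩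
  have hz : IsZero (((CochainComplex.singleFunctor C (n + 1)).obj G).X (i + 1)) :=
    isZero_single_obj_X _ _ _ _ (by omega)
  have := mappingCone.id_X φ i (i + 1) rfl
  rwa [hz.eq_of_tgt ((mappingCone.fst φ).1.v i (i + 1) rfl) 0, zero_comp, zero_add] at this

/-- Finite descent. -/
lemma exists_descent [P.ContainsZero] (hsum : ∀ X Y : C, P X → P Y → P (X ⨯ Y))
    (hql : PCoh.IsQuasiLiftable P) {F : CochainComplex C ℤ} (n k : ℤ) (hnk : n ≤ k)
    (hFT : ∀ (j : ℤ) (G : CochainComplex C ℤ) (f : G ⟶ F), n ≤ j → j < k → PCoh.IsStrictPC P n G →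
      NQis f (j + 1) → PCoh.IsOfFiniteType P ((mappingCone f).homology j))
    {E : CochainComplex C ℤ} (hE : PCoh.IsStrictPC P n E) (u : E ⟶ F) (hu : NQis u k) :
    ∃ (E' : CochainComplex C ℤ) (v : E ⟶ E') (u' : E' ⟶ F), v ≫ u' = u ∧ (∀ i, Mono (v.f i)) ∧
      (∀ i, k ≤ i → IsIso (v.f i)) ∧ (∀ i, P (E.X i) → P (E'.X i)) ∧
      PCoh.IsStrictPC P n E' ∧ NQis u' n := by
  obtain ⟨t, rfl⟩ : ∃ t : ℕ, k = n + t := ⟨(k - n).toNat, by omega⟩
  clear hnk
  induction t generalizing E with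
  | zero =>
    exact ⟨E, 𝟙 E, u, Category.id_comp _, fun i => by rw [id_f]; infer_instance,
      fun i _ => by rw [id_f]; infer_instance, fun _ h => h, hE, by simpa using hu⟩
  | succ t ih =>
    obtain ⟨E₁, v₁, u₁, h₁, hm₁, hi₁, _, hP₁, hn₁⟩ := exists_step hsum hql u (n + t)
      (by convert hu using 1; omega)
      (hFT _ E u (by omega) (by omega) hE (by convert hu using 1; omega))
    have hE₁ : PCoh.IsStrictPC P n E₁ :=
      ⟨bounded_of_iso_ge v₁ (n + t + 1) (fun i hi => hi₁ i (by omega)) hE.1,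
        fun i hi => hP₁ i (hE.2 i hi)⟩
    obtain ⟨E₂, v₂, u₂, h₂, hm₂, hi₂, hP₂, hE₂, hn₂⟩ :=
      ih hE₁ u₁ (fun j G f h h' => hFT j G f h (by omega)) hn₁
    refine ⟨E₂, v₁ ≫ v₂, u₂, by rw [Category.assoc, h₂, h₁], fun i => ?_, fun i hi => ?_,
      fun i h => hP₂ i (hP₁ i h), hE₂, hn₂⟩
    · haveI := hm₁ i; haveI := hm₂ i; rw [comp_f]; exact mono_comp _ _
    · haveI := hi₁ i (by omega); haveI := hi₂ i (by omega); rw [comp_f]; infer_instance

lemma strictPC_mono {n m : ℤ} (h : n ≤ m) {E : CochainComplex C ℤ} (hE : PCoh.IsStrictPC P n E) :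
    PCoh.IsStrictPC P m E :=
  ⟨hE.1, fun i hi => hE.2 i (by omega)⟩

/-- Descent followed by completion. -/
lemma exists_resolution [P.ContainsZero] (hsum : ∀ X Y : C, P X → P Y → P (X ⨯ Y))
    (hql : PCoh.IsQuasiLiftable P) {F : CochainComplex C ℤ} (n k : ℤ) (hnk : n ≤ k)
    (hFT : ∀ (j : ℤ) (G : CochainComplex C ℤ) (f : G ⟶ F), n ≤ j → j < k → PCoh.IsStrictPC P n G →
      NQis f (j + 1) → PCoh.IsOfFiniteType P ((mappingCone f).homology j))
    {E : CochainComplex C ℤ} (hE : PCoh.IsStrictPC P n E) (u : E ⟶ F) (hu : NQis u k) :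
    ∃ (E' : CochainComplex C ℤ) (v : E ⟶ E') (u' : E' ⟶ F), v ≫ u' = u ∧
      PCoh.IsStrictPC P n E' ∧ QuasiIso u' ∧ (∀ i, Mono (v.f i)) ∧
      (∀ i, k ≤ i → IsIso (v.f i)) := by
  obtain ⟨E₁, v₁, u₁, h₁, hm₁, hi₁, _, hE₁, hn₁⟩ := exists_descent hsum hql n k hnk hFT hE u hu
  obtain ⟨E₂, v₂, u₂, h₂, hq, hm₂, hi₂⟩ := exists_completion u₁ n hn₁
  refine ⟨E₂, v₁ ≫ v₂, u₂, by rw [Category.assoc, h₂, h₁],
    ⟨bounded_of_iso_ge v₂ n hi₂ hE₁.1, fun i hi => ?_⟩, hq, fun i => ?_, fun i hi => ?_⟩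
  · haveI := hi₂ i hi
    exact P.prop_of_iso (asIso (v₂.f i)) (hE₁.2 i hi)
  · haveI := hm₁ i; haveI := hm₂ i; rw [comp_f]; exact mono_comp _ _
  · haveI := hi₁ i hi; haveI := hi₂ i (by omega); rw [comp_f]; infer_instance

variable (C) in
lemma strictPC_zero (P : ObjectProperty C) [P.IsClosedUnderIsomorphisms] [P.ContainsZero] (n : ℤ) :
    ∀ G : CochainComplex C ℤ, IsZero G → PCoh.IsStrictPC P n G := fun _ hG =>
  have h := fun i => (HomologicalComplex.eval C (ComplexShape.up ℤ) i).map_isZero hG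
  ⟨⟨0, fun i _ => h i⟩, fun i _ => P_zero (h i)⟩

/-- Quasi-isomorphic sources of cones. -/
lemma cone_H_iso [HasDerivedCategory.{w} C] {E F E' F' : CochainComplex C ℤ} (u : E ⟶ F)
    (u' : E' ⟶ F') (e₁ : Q.obj E ≅ Q.obj E') (e₂ : Q.obj F ≅ Q.obj F')
    (h : Q.map u ≫ e₂.hom = e₁.hom ≫ Q.map u') :
    Nonempty (Q.obj (mappingCone u) ≅ Q.obj (mappingCone u')) :=
  ⟨Triangle.π₃.mapIso (isoTriangleOfIso₁₂ _ _ (cone_distinguished u) (cone_distinguished u')
    e₁ e₂ h)⟩

/-- A quasi-isomorphism into a strictly `n`-pseudo-coherent complex. -/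
lemma exists_strictPC_quasiIso [P.ContainsZero] (hsum : ∀ X Y : C, P X → P Y → P (X ⨯ Y))
    (hqs : PCoh.IsQuasiStableUnderKernels P) (hql : PCoh.IsQuasiLiftable P)
    (n : ℤ) {E F : CochainComplex C ℤ} (hF : PCoh.IsStrictPC P n F) (u : E ⟶ F) [QuasiIso u] :
    ∃ (F' : CochainComplex C ℤ) (v : F' ⟶ E), PCoh.IsStrictPC P n F' ∧ QuasiIso v := by
  letI := HasDerivedCategory.standard C
  obtain ⟨b, hb⟩ := hF.1
  have hE : ∀ i, b < i → IsZero (E.homology i) := fun i hi =>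
    IsZero.of_iso (ShortComplex.isZero_homology_of_isZero_X₂ _ (hb i hi))
      (asIso (homologyMap u i))
  obtain ⟨G₀, hG₀⟩ : ∃ G₀ : CochainComplex C ℤ, IsZero G₀ := HasZeroObject.zero
  have hFT : ∀ (j : ℤ) (G : CochainComplex C ℤ) (f : G ⟶ E), n ≤ j → j < max n (b + 1) →
      PCoh.IsStrictPC P n G → NQis f (j + 1) →
      PCoh.IsOfFiniteType P ((mappingCone f).homology j) := by
    intro j G f hj _ hG hf
    obtain ⟨e⟩ := cone_H_iso f (f ≫ u) (Iso.refl _) (asIso (Q.map u)) (by simp)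
    have he : ∀ i, (mappingCone f).homology i ≅ (mappingCone (f ≫ u)).homology i := fun i =>
      (DerivedCategory.homologyFunctorFactors C i).symm.app _ ≪≫
        (DerivedCategory.homologyFunctor C i).mapIso e ≪≫
          (DerivedCategory.homologyFunctorFactors C i).app _
    refine FT_iso (he j).symm (FT_homology_of_strictPC hqs j _ ?_ ?_ fun i hi => ?_)
    · exact (cone_strict hsum (f ≫ u) j (strictPC_mono (by omega) hG) (strictPC_mono hj hF)).1
    · exact (cone_strict hsum (f ≫ u) j (strictPC_mono (by omega) hG) (strictPC_mono hj hF)).2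
    · exact ((nQis_iff_cone f (j + 1)).1 hf i (by omega)).of_iso (he i).symm
  obtain ⟨E', -, u', -, hE', hq, -, -⟩ := exists_resolution hsum hql n (max n (b + 1))
    (le_max_left _ _) hFT (strictPC_zero C P n G₀ hG₀)
    (0 : G₀ ⟶ E) (nQis_zero hG₀ _ (fun i hi => hE i (by omega)))
  exact ⟨E', u', hE', hq⟩

end Groth.Agent.PCohLib
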