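import Groth.Agent.PCohLib.Derived
import Mathlib.Algebra.Homology.DerivedCategory.FullyFaithful

/-! Truncations, criteria by terms and by homology, independence of the class, transport. -/

set_option autoImplicit false
set_option backward.isDefEq.respectTransparency false
set_option backward.defeqAttrib.useBackward true
set_option linter.style.haveILetI false
set_option linter.unusedSectionVars false

universe w w' v v' u u'

open CategoryTheory CategoryTheory.Limits CategoryTheory.Pretriangulated HomologicalComplex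
open CochainComplex CochainComplex.HomComplex
open DerivedCategory (Q)

namespace Groth.Agent.PCohLib

variable {C : Type u} [Category.{v} C] [Abelian C] {P : ObjectProperty C} [P.IsClosedUnderIsomorphisms]

/-- Stupid truncation as a subcomplex. -/
lemma exists_sigma (E : CochainComplex C ℤ) (n : ℤ) :
    ∃ (G : CochainComplex C ℤ) (ι : G ⟶ E), (∀ i, Mono (ι.f i)) ∧ (∀ i, n ≤ i → IsIso (ι.f i)) ∧
      (∀ i, i < n → IsZero (G.X i)) := by
  classical
  let S : ∀ i, Subobject (E.X i) := fun i => if n ≤ i then ⊤ else ⊥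
  have hS : ∀ i, (S (i + 1)).Factors ((S i).arrow ≫ E.d i (i + 1)) := by
    intro i
    by_cases hi : n ≤ i
    · simp only [S, if_pos hi, if_pos (show n ≤ i + 1 by omega)]
      exact Subobject.top_factors _
    · have h0 : (S i).arrow = 0 := (IsZero.of_iso (isZero_zero C)
        (eqToIso (congrArg (fun T : Subobject (E.X i) => (T : C))
          (show S i = ⊥ from if_neg hi)) ≪≫ Subobject.botCoeIsoZero)).eq_of_src _ _
      rw [h0, zero_comp]
      exact Subobject.factors_zero
  obtain ⟨G, ι, e, he, hm⟩ := exists_subcomplex E (fun i => (S i : C)) (fun i => (S i).arrow)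
    (fun i => ⟨(S (i + 1)).factorThru _ (hS i), Subobject.factorThru_arrow _ _ _⟩)
  refine ⟨G, ι, hm, fun i hi => ?_, fun i hi => ?_⟩
  · rw [he]
    haveI : IsIso (S i).arrow := by
      rw [Subobject.isIso_arrow_iff_eq_top]; simp only [S, if_pos hi]
    infer_instance
  · exact (IsZero.of_iso (isZero_zero C)
      (eqToIso (congrArg (fun T : Subobject (E.X i) => (T : C)) (show S i = ⊥ by
        simp only [S, if_neg (show ¬ n ≤ i by omega)])) ≪≫ Subobject.botCoeIsoZero)).of_iso (e i)

/-- Short exact sequence of a degreewise monomorphism. -/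
lemma coker_ses {E F : CochainComplex C ℤ} (ι : E ⟶ F) [hι : ∀ i, Mono (ι.f i)] :
    (ShortComplex.mk ι (cokernel.π ι) (cokernel.condition ι)).ShortExact := by
  haveI : Mono ι := HomologicalComplex.mono_of_mono_f ι hι
  exact { exact := ShortComplex.exact_cokernel ι }

lemma coker_X {E F : CochainComplex C ℤ} (ι : E ⟶ F) [hι : ∀ i, Mono (ι.f i)] (i : ℤ) :
    (Epi (ι.f i) → IsZero ((cokernel ι).X i)) ∧
      (IsZero (E.X i) → IsIso ((cokernel.π ι).f i)) := by
  have h := (coker_ses ι).map_of_exact (HomologicalComplex.eval C (ComplexShape.up ℤ) i)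
  constructor
  · intro he
    haveI := h.epi_g
    haveI : Epi ((ShortComplex.mk ι (cokernel.π ι) (cokernel.condition ι)).map
      (HomologicalComplex.eval C (ComplexShape.up ℤ) i)).f := he
    rw [IsZero.iff_id_eq_zero]
    have hg : (cokernel.π ι).f i = 0 := by
      rw [← cancel_epi (ι.f i), ← comp_f, cokernel.condition]; simp
    haveI : Epi ((cokernel.π ι).f i) := h.epi_g
    rw [← cancel_epi ((cokernel.π ι).f i), hg]; simp
  · exact fun hz => h.isIso_g_iff.2 hz

/-- An object concentrated in one degree. -/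
lemma exists_single_iso (G : CochainComplex C ℤ) (b : ℤ) (h : ∀ i, i ≠ b → IsZero (G.X i)) :
    Nonempty (G ≅ (CochainComplex.singleFunctor C b).obj (G.X b)) := by
  haveI : G.IsStrictlyGE b := (G.isStrictlyGE_iff b).2 fun i hi => h i (by omega)
  haveI : G.IsStrictlyLE b := (G.isStrictlyLE_iff b).2 fun i hi => h i (by omega)
  obtain ⟨Y, ⟨e⟩⟩ := G.exists_iso_single b
  exact ⟨e ≪≫ (CochainComplex.singleFunctor C b).mapIso
    (((HomologicalComplex.eval C (ComplexShape.up ℤ) b).mapIso e ≪≫
      singleObjXSelf (ComplexShape.up ℤ) b Y).symm)⟩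

variable [HasDerivedCategory.{w} C] [P.ContainsZero]

local notation "HF" => DerivedCategory.homologyFunctor C

lemma Q_single (G : CochainComplex C ℤ) (b : ℤ) (h : ∀ i, i ≠ b → IsZero (G.X i)) :
    Nonempty (((DerivedCategory.singleFunctor C 0).obj (G.X b))⟦-b⟧ ≅ Q.obj G) :=
  ⟨((DerivedCategory.singleFunctors C).shiftIso (-b) b 0 (by omega)).app (G.X b) ≪≫
    ((DerivedCategory.singleFunctorIsoCompQ C b).app (G.X b)) ≪≫
      Q.mapIso (exists_single_iso G b h).some.symm⟩

/-- Strictly perfect approximations. -/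
lemma exists_approx {n : ℤ} {F : DerivedCategory C} (hF : GPC P n F) :
    ∃ (E : CochainComplex C ℤ) (a b : ℤ) (α : Q.obj E ⟶ F),
      (∀ i : ℤ, i < a ∨ b < i → IsZero (E.X i)) ∧ (∀ i : ℤ, P (E.X i)) ∧
      (∀ i : ℤ, n < i → IsIso ((HF i).map α)) ∧ Epi ((HF n).map α) := by
  obtain ⟨E, ⟨⟨b, hb⟩, hP⟩, ⟨e⟩⟩ := hF
  obtain ⟨G, ι, hm, hi, hz⟩ := exists_sigma E n
  haveI := hm
  have hn := nQis_of_isIso_ge ι n hi
  refine ⟨G, n, max b n, Q.map ι ≫ e.hom, fun i h => ?_, fun i => ?_, fun i h => ?_, ?_⟩
  · rcases h with h | h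
    · exact hz i h
    · haveI := hi i (by omega)
      exact (hb i (by omega)).of_iso (asIso (ι.f i))
  · by_cases h : n ≤ i
    · haveI := hi i h
      exact P.prop_of_iso (asIso (ι.f i)).symm (hP i h)
    · exact P_zero (hz i (by omega))
  · haveI := (isIso_H_map_Q_iff ι i).2 (hn.1 i h)
    rw [Functor.map_comp]; infer_instance
  · haveI := (epi_H_map_Q_iff ι n).2 hn.2
    rw [Functor.map_comp]; infer_instance

variable (hsum : ∀ X Y : C, P X → P Y → P (X ⨯ Y))
  (hqs : PCoh.IsQuasiStableUnderKernels P) (hql : PCoh.IsQuasiLiftable P)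

include hsum hqs hql in
/-- Pseudo-coherence from the terms. -/
lemma gpc_of_terms (n : ℤ) (F : CochainComplex C ℤ) (b : ℤ) (hb : ∀ i : ℤ, b < i → IsZero (F.X i))
    (hfp : ∀ i : ℤ, n ≤ i → GPC P (n - i) ((DerivedCategory.singleFunctor C 0).obj (F.X i))) :
    GPC P n (Q.obj F) := by
  obtain ⟨t, ht⟩ : ∃ t : ℕ, b < n + t := ⟨(b + 1 - n).toNat, by omega⟩
  induction t generalizing F b with
  | zero =>
    refine gpc_of_acyclic hsum hqs hql fun i hi => ?_
    rw [isZero_H_iff]
    exact ShortComplex.isZero_homology_of_isZero_X₂ _ (hb i (by omega))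
  | succ t ih =>
    obtain ⟨G, ι, hm, hi, hz⟩ := exists_sigma F (n + t)
    haveI := hm
    have hG : ∀ i, i ≠ n + t → IsZero (G.X i) := fun i h => by
      rcases lt_or_gt_of_ne h with h | h
      · exact hz i h
      · haveI := hi i h.le
        exact (hb i (by omega)).of_iso (asIso (ι.f i))
    have hT := DerivedCategory.triangleOfSES_distinguished (coker_ses ι)
    refine gpc_mid hsum hqs hql hT ?_ ?_
    · haveI := hi (n + t) le_rfl
      exact gpc_iso (Q_single G (n + t) hG).some (gpc_shift (gpc_iso
        ((DerivedCategory.singleFunctor C 0).mapIso (asIso (ι.f (n + t))).symm) (hfp (n + t) (by omega)))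
        (-(n + t)) n (by omega))
    · refine ih (cokernel ι) (n + t - 1) (fun i h => ?_) (fun i h => ?_) (by omega)
      · haveI := hi i (by omega)
        exact (coker_X ι i).1 inferInstance
      · by_cases h' : n + t ≤ i
        · haveI := hi i h'
          exact gpc_of_acyclic hsum hqs hql fun j _ =>
            (Functor.map_isZero _ ((DerivedCategory.singleFunctor C 0).map_isZero ((coker_X ι i).1 inferInstance)))
        · haveI := (coker_X ι i).2 (hz i (by omega))
          exact gpc_iso ((DerivedCategory.singleFunctor C 0).mapIso (asIso ((cokernel.π ι).f i))) (hfp i h)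

include hsum hqs hql in
/-- Pseudo-coherence from the homology. -/
lemma gpc_of_homology (n : ℤ) (F : DerivedCategory C) (b : ℤ)
    (hb : ∀ i : ℤ, b < i → IsZero ((HF i).obj F))
    (hfp : ∀ i : ℤ, n ≤ i → GPC P (n - i) ((DerivedCategory.singleFunctor C 0).obj ((HF i).obj F))) :
    GPC P n F := by
  obtain ⟨t, ht⟩ : ∃ t : ℕ, b < n + t := ⟨(b + 1 - n).toNat, by omega⟩
  induction t generalizing F b with
  | zero => exact gpc_of_acyclic hsum hqs hql fun i hi => hb i (by omega)
  | succ t ih =>
    obtain ⟨X, Y, hX, hY, f, g, h, hT⟩ :=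
      DerivedCategory.TStructure.t.exists_triangle F (n + t - 1) (n + t) (by omega)
    haveI : X.IsLE (n + t - 1) := ⟨hX⟩
    haveI : Y.IsGE (n + t) := ⟨hY⟩
    have hX0 : ∀ i, n + t - 1 < i → IsZero ((HF i).obj X) := fun i hi =>
      DerivedCategory.isZero_of_isLE X (n + t - 1) i hi
    have hY0 : ∀ i, i < n + t → IsZero ((HF i).obj Y) := fun i hi =>
      DerivedCategory.isZero_of_isGE Y (n + t) i hi
    have hfiso : ∀ i, i < n + t → IsIso ((HF i).map f) := fun i hi => by
      haveI : Epi ((HF i).map f) :=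
        (DerivedCategory.HomologySequence.epi_homologyMap_mor₁_iff _ hT i).2
          ((hY0 i hi).eq_of_tgt _ _)
      haveI : Mono ((HF i).map f) :=
        (DerivedCategory.HomologySequence.mono_homologyMap_mor₁_iff _ hT (i - 1) i (by omega)).2
          ((hY0 (i - 1) (by omega)).eq_of_src _ _)
      exact isIso_of_mono_of_epi _
    have hgiso : ∀ i, n + t ≤ i → IsIso ((HF i).map g) := fun i hi => by
      haveI : Epi ((HF i).map g) :=
        (DerivedCategory.HomologySequence.epi_homologyMap_mor₂_iff _ hT i (i + 1) rfl).2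
          ((hX0 (i + 1) (by omega)).eq_of_tgt _ _)
      haveI : Mono ((HF i).map g) :=
        (DerivedCategory.HomologySequence.mono_homologyMap_mor₂_iff _ hT i).2
          ((hX0 i (by omega)).eq_of_src _ _)
      exact isIso_of_mono_of_epi _
    refine gpc_mid hsum hqs hql hT ?_ ?_
    · refine ih X (n + t - 1) hX0 (fun i hi => ?_) (by omega)
      by_cases h' : i < n + t
      · haveI := hfiso i h'
        exact gpc_iso ((DerivedCategory.singleFunctor C 0).mapIso (asIso ((HF i).map f)).symm) (hfp i hi)
      · exact gpc_of_acyclic hsum hqs hql fun j _ =>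
          Functor.map_isZero _ ((DerivedCategory.singleFunctor C 0).map_isZero (hX0 i (by omega)))
    · haveI : Y.IsLE (n + t) := by
        rw [DerivedCategory.isLE_iff]
        intro i hi
        haveI := hgiso i hi.le
        exact (hb i (by omega)).of_iso (asIso ((HF i).map g)).symm
      obtain ⟨Z, ⟨e⟩⟩ := DerivedCategory.exists_iso_singleFunctor_obj_of_isGE_of_isLE Y (n + t)
      haveI := hgiso (n + t) le_rfl
      let eZ : (HF (n + t)).obj F ≅ Z := asIso ((HF (n + t)).map g) ≪≫ (HF (n + t)).mapIso e ≪≫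
        (DerivedCategory.singleFunctorCompHomologyFunctorIso C (n + t)).app Z
      exact gpc_iso (((DerivedCategory.singleFunctors C).shiftIso (-(n + t)) (n + t) 0
        (by omega)).app Z ≪≫ e.symm)
        (gpc_shift (gpc_iso ((DerivedCategory.singleFunctor C 0).mapIso eZ) (hfp (n + t) (by omega)))
          (-(n + t)) n (by omega))

include hsum hqs hql in
/-- Direct summands. -/
lemma gpc_biprod_iff (n : ℤ) (F' F'' : DerivedCategory C) :
    GPC P n (F' ⊞ F'') ↔ GPC P n F' ∧ GPC P n F'' := by
  constructor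
  · intro h
    obtain ⟨b, hb⟩ := gpc_bounded h
    have key : ∀ t : ℕ, GPC P (max n (b + 1) - t) (F' ⊞ F'') →
        GPC P (max n (b + 1) - t) F' ∧ GPC P (max n (b + 1) - t) F'' := by
      intro t
      induction t with
      | zero =>
        intro _
        exact ⟨gpc_of_acyclic hsum hqs hql fun i hi => by
            rw [IsZero.iff_id_eq_zero, ← CategoryTheory.Functor.map_id, ← biprod.inl_fst,
              Functor.map_comp, (hb i (by omega)).eq_of_tgt ((HF i).map biprod.inl) 0, zero_comp],
          gpc_of_acyclic hsum hqs hql fun i hi => by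
            rw [IsZero.iff_id_eq_zero, ← CategoryTheory.Functor.map_id, ← biprod.inr_snd,
              Functor.map_comp, (hb i (by omega)).eq_of_tgt ((HF i).map biprod.inr) 0, zero_comp]⟩
      | succ t ih =>
        intro hk
        obtain ⟨h', h''⟩ := ih (gpc_mono (by omega) hk)
        refine ⟨?_, ?_⟩
        · exact gpc_cone hsum hqs hql (binaryBiproductTriangle_distinguished F'' F')
            (gpc_mono (by omega) h'') (gpc_iso (biprod.braiding F' F'') hk)
        · exact gpc_cone hsum hqs hql (binaryBiproductTriangle_distinguished F' F'')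
            (gpc_mono (by omega) h') hk
    have := key (max n (b + 1) - n).toNat
    rw [show max n (b + 1) - ((max n (b + 1) - n).toNat : ℕ) = n by omega] at this
    exact this h
  · exact fun h => gpc_mid hsum hqs hql (binaryBiproductTriangle_distinguished F' F'') h.1 h.2

include hsum hqs hql in
/-- `n`-pseudo-coherence and acyclicity above: a representative vanishing above. -/
lemma exists_strict_vanishing {n m : ℤ} (hnm : n ≤ m) {F : DerivedCategory C} (hF : GPC P n F)
    (hac : ∀ i : ℤ, m ≤ i → IsZero ((HF i).obj F)) :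
    ∃ E : CochainComplex C ℤ, PCoh.IsStrictPC P n E ∧ (∀ i : ℤ, m ≤ i → IsZero (E.X i)) ∧
      Nonempty (Q.obj E ≅ F) := by
  obtain ⟨K, hK, ⟨e⟩⟩ := hF
  obtain ⟨G₀, hG₀⟩ : ∃ G₀ : CochainComplex C ℤ, IsZero G₀ := HasZeroObject.zero
  obtain ⟨E, v, u', -, hE, hq, -, hi⟩ := exists_resolution hsum hql n m hnm
    (fun j G f hj _ hG hf => by
      have hj' := cone_strict hsum f j (strictPC_mono (by omega) hG) (strictPC_mono hj hK)
      exact FT_homology_of_strictPC hqs j _ hj'.1 hj'.2
        fun i hi => (nQis_iff_cone f (j + 1)).1 hf i (by omega))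
    (strictPC_zero C P n G₀ hG₀) (0 : G₀ ⟶ K)
    (nQis_zero hG₀ _ fun i hi => (hac i hi).of_iso (Hiso e i))
  refine ⟨E, hE, fun i h => ?_, ⟨asIso (Q.map u') ≪≫ e⟩⟩
  haveI := hi i h
  exact ((HomologicalComplex.eval C (ComplexShape.up ℤ) i).map_isZero hG₀).of_iso (asIso (v.f i)).symm

end Groth.Agent.PCohLib
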